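import Cfsg.Agent.Leech.Conf

/-! The census of the minimal vectors by their product with a vector of norm 48 or 32. -/

set_option autoImplicit false

namespace Cfsg.Agent.Leech
open Cfsg
open Cfsg.Agent.Golay (sumBig)

theorem cenU1 : sumBig (cenF 0x6a5294a5294a5294a5294a5294a529) 49140 = 0x2dc900c40000a00000000000000000000000000000000000000000000000009f00c2e02db904ac5 := by decide +kernel
theorem cenU2 : sumBig (fun k => cenF 0x6a5294a5294a5294a5294a5294a529 (Nat.add 49140 k)) 49140 = 0x2d2300a92000740000000000000000000000000000000000000000000000008c00aa402d3404f67 := by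
  decide +kernel
theorem cenU3 : sumBig (fun k => cenF 0x6a5294a5294a5294a5294a5294a529 (Nat.add 98280 k)) 49140 = 0x2d35007e80004d000000000000000000000000000000000000000000000000b000cf0035b704733 := by
  decide +kernel
theorem cenU4 : sumBig (fun k => cenF 0x6a5294a5294a5294a5294a5294a529 (Nat.add 147420 k)) 49140 = 0x35b700cf0000c70000000000000000000000000000000000000000000000004d007e802d340471d := by
  decide +kernel
theorem cenV1 : sumBig (cenF 0x62108421084210842108421084210c) 49140 = 0x2ce40063800000000010000000000000000000000000000000000000001000000063802cc0059de := by decide +kernel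
theorem cenV2 : sumBig (fun k => cenF 0x62108421084210842108421084210c (Nat.add 49140 k)) 49140 = 0x2b1e003c00000000000000000000000000000000000000000000000000000000003c002b5606200 := by
  decide +kernel
theorem cenV3 : sumBig (fun k => cenF 0x62108421084210842108421084210c (Nat.add 98280 k)) 49140 = 0x2ffe0040100000000000000000000000000000000000000000000000000000000040002fea0580b := by
  decide +kernel
theorem cenV4 : sumBig (fun k => cenF 0x62108421084210842108421084210c (Nat.add 147420 k)) 49140 = 0x3000003ff00000000000000000000000000000000000000000000000000000000040003000057f5 := by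
  decide +kernel

theorem cenU (c : ℤ) (j N : ℕ) (hc : 8 ∣ c ∧ -48 ≤ c ∧ c ≤ 48 ∧ c / 8 % 16 = j)
    (h : 0xbdd802baa002280000000000000000000000000000000000000000000000022802baa0bdd81287c / (2 ^ 20) ^ j % 2 ^ 20 = N) {u : leechLattice}
    (hu : sqNorm (u : V) = 48) : (C1 u c).ncard = N := by
  obtain ⟨g, rfl⟩ := exists_uu hu
  rw [ncard_C1, census norm_uu.le cd_uu cenU1 cenU2 cenU3 cenU4 c j hc, ← h]

theorem cenV (c : ℤ) (j N : ℕ) (hc : 8 ∣ c ∧ -48 ≤ c ∧ c ≤ 48 ∧ c / 8 % 16 = j)
    (h : 0xb800011f80000000001000000000000000000000000000000000000000100000011f80b80016bde / (2 ^ 20) ^ j % 2 ^ 20 = N) {v : leechLattice}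
    (hv : sqNorm (v : V) = 32) : (C1 v c).ncard = N := by
  obtain ⟨g, rfl⟩ := exists_vv hv
  rw [ncard_C1, census (norm_vv.le.trans (by norm_num)) cd_vv cenV1 cenV2 cenV3 cenV4 c j hc, ← h]

theorem ncard_552 {u : leechLattice} (hu : sqNorm (u : V) = 48) : (C1 u 24).ncard = 552 :=
  cenU 24 3 _ (by decide) (by decide +kernel) hu
theorem ncard_11178 {u : leechLattice} (hu : sqNorm (u : V) = 48) : (C1 u (-16)).ncard = 11178 :=
  cenU (-16) 14 _ (by decide) (by decide +kernel) hu
theorem ncard_11178' {u : leechLattice} (hu : sqNorm (u : V) = 48) : (C1 u 16).ncard = 11178 :=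
  cenU 16 2 _ (by decide) (by decide +kernel) hu
theorem ncard_48600 {u : leechLattice} (hu : sqNorm (u : V) = 48) : (C1 u 8).ncard = 48600 :=
  cenU 8 1 _ (by decide) (by decide +kernel) hu
theorem ncard_75900 {u : leechLattice} (hu : sqNorm (u : V) = 48) : (C1 u 0).ncard = 75900 :=
  cenU 0 0 _ (by decide) (by decide +kernel) hu
theorem ncard_4600 {v : leechLattice} (hv : sqNorm (v : V) = 32) : (C1 v (-16)).ncard = 4600 :=
  cenV (-16) 14 _ (by decide) (by decide +kernel) hv
theorem ncard_4600' {v : leechLattice} (hv : sqNorm (v : V) = 32) : (C1 v 16).ncard = 4600 :=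
  cenV 16 2 _ (by decide) (by decide +kernel) hv
theorem ncard_47104 {v : leechLattice} (hv : sqNorm (v : V) = 32) : (C1 v (-8)).ncard = 47104 :=
  cenV (-8) 15 _ (by decide) (by decide +kernel) hv
theorem ncard_47104' {v : leechLattice} (hv : sqNorm (v : V) = 32) : (C1 v 8).ncard = 47104 :=
  cenV 8 1 _ (by decide) (by decide +kernel) hv
theorem ncard_93150 {v : leechLattice} (hv : sqNorm (v : V) = 32) : (C1 v 0).ncard = 93150 :=
  cenV 0 0 _ (by decide) (by decide +kernel) hv

end Cfsg.Agent.Leech
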