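import Cfsg.Agent.Leech.OrbList
import Cfsg.Agent.Leech.NormIn

/-! Certificates for orders of subgroups of `Co0`: words, lower bounds by orbits, upper bounds by
counting candidates, and lists of the elements of small subgroups. -/

set_option autoImplicit false

namespace Cfsg.Agent.Leech
open Cfsg MulAction
open Cfsg.Agent.Golay (In bfs mapL lenL sumL forceL force force_eq forceL_eq mapL_eq nthL sumTo get gE
  add_eq_zero_iff' xor_eq_zero' IsCAct isZ)

/-- value of a word -/
def evG {G : Type*} [Group G] (gs : List G) (w : List ℕ) : G := (w.map fun i => gs.getD i 1).prod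

theorem evG_map {G H : Type*} [Group G] [Group H] (f : G →* H) (gs : List G) (w : List ℕ) :
    f (evG gs w) = evG (gs.map f) w := by
  unfold evG
  rw [map_list_prod, List.map_map]
  congr 1
  refine List.map_congr_left fun i _ => ?_
  simp only [Function.comp, List.getD_eq_getElem?_getD, List.getElem?_map]
  cases gs[i]? <;> simp

theorem evG_mem {G : Type*} [Group G] {K : Subgroup G} {gs : List G} (h : ∀ g ∈ gs, g ∈ K)
    (w : List ℕ) : evG gs w ∈ K := by
  refine K.list_prod_mem fun g hg => ?_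
  obtain ⟨i, -, rfl⟩ := List.mem_map.1 hg
  rw [List.getD_eq_getElem?_getD]
  cases e : gs[i]? with
  | none => exact K.one_mem
  | some x => exact h x (List.mem_of_getElem? e)

/-- value of a word on codes -/
noncomputable def evC (cs : List ℕ) (w : List ℕ) : ℕ :=
  List.rec (motive := fun _ => ℕ) gone (fun i _ ih => force ih fun y => gmul (nthL gone cs i) y) w

theorem nthL_map {α : Type*} (f : α → ℕ) (a : α) (gs : List α) (i : ℕ) :
    nthL (f a) (gs.map f) i = f (gs.getD i a) := by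
  induction gs generalizing i with
  | nil => rfl
  | cons g gs ih =>
    cases i with
    | zero => rfl
    | succ i => exact ih i

theorem nthL_gc (gs : List Co0) (i : ℕ) : nthL gone (gs.map gc) i = gc (gs.getD i 1) := by
  rw [← gc_one, nthL_map]

theorem evC_gc (gs : List Co0) (w : List ℕ) : evC (gs.map gc) w = gc (evG gs w) := by
  induction w with
  | nil => exact gc_one.symm
  | cons i w ih =>
    have : evC (gs.map gc) (i :: w) = force (evC (gs.map gc) w) fun y =>
      gmul (nthL gone (gs.map gc) i) y := rfl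
    rw [this, force_eq, ih, nthL_gc, gmul_gc]
    rfl

theorem exists_list_of_in {H : Subgroup Co0} {cs : List ℕ} (h : In gc H cs) :
    ∃ gs : List Co0, (∀ g ∈ gs, g ∈ H) ∧ gs.map gc = cs := by
  induction cs with
  | nil => exact ⟨[], by simp, rfl⟩
  | cons c cs ih =>
    obtain ⟨g, hg, e⟩ := h c (by simp)
    obtain ⟨gs, h1, h2⟩ := ih fun c hc => h c (by simp [hc])
    exact ⟨g :: gs, List.forall_mem_cons.2 ⟨hg, h1⟩, by rw [List.map_cons, e, h2]⟩

/-- values of several words -/
noncomputable def evCs (cs : List ℕ) (ws : List (List ℕ)) : List ℕ :=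
  List.rec (motive := fun _ => List ℕ) [] (fun w _ ih => evC cs w :: ih) ws

theorem in_evCs {H : Subgroup Co0} {cs : List ℕ} (h : In gc H cs) (ws : List (List ℕ)) :
    In gc H (evCs cs ws) := by
  obtain ⟨gs, h1, rfl⟩ := exists_list_of_in h
  induction ws with
  | nil => intro c hc; cases hc
  | cons w ws ih =>
    intro c hc
    rcases List.mem_cons.1 hc with rfl | hc
    · exact ⟨_, evG_mem h1 w, (evC_gc gs w).symm⟩
    · exact ih c hc

/-- power of a code -/
noncomputable def pwG (c n : ℕ) : ℕ :=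
  Nat.rec (motive := fun _ => ℕ) gone (fun _ ih => force ih fun y => gmul c y) n

theorem pwG_gc (g : Co0) (n : ℕ) : pwG (gc g) n = gc (g ^ n) := by
  induction n with
  | zero => exact gc_one.symm
  | succ n ih =>
    have : pwG (gc g) (n + 1) = force (pwG (gc g) n) fun y => gmul (gc g) y := rfl
    rw [this, force_eq, ih, gmul_gc, pow_succ']

/-- zero if `n` is the code of a short vector -/
noncomputable def shErr (n : ℕ) : ℕ := Nat.add (errL n) (Nat.sub (nm n) (nat_lit 524368))

theorem exists_of_shErr {n : ℕ} (h : shErr n = 0) : ∃ v, Sh v ∧ cd v = n := by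
  obtain ⟨h1, h2⟩ := add_eq_zero_iff'.1 h
  refine ⟨decL n h1, ?_, enc_decL _ _⟩
  have h3 := nm_eq (errL_lt h1)
  have h4 : nm n - 524368 = 0 := h2
  show sqNorm (dec n) ≤ 80
  omega

/-- zero if the orbits have the claimed lengths -/
noncomputable def lowErr (levels : List (ℕ × ℕ × List (List ℕ))) : List ℕ → ℕ :=
  List.rec (motive := fun _ => List ℕ → ℕ) (fun _ => nat_lit 0)
    (fun l _ ih cs => forceL (evCs cs l.2.2) fun cs' =>
      Nat.add (Nat.add (Nat.add (shErr l.1) (isZ l.2.1))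
        (Nat.xor (bfs vact (mapL prep cs) l.1 (Nat.succ l.2.1) fun L _ => lenL L) l.2.1))
        (Nat.add (sumL (fun c => Nat.xor (ap1 c l.1) l.1) cs') (ih cs'))) levels

theorem le_card_of_lowErr {levels : List (ℕ × ℕ × List (List ℕ))} {H : Subgroup Co0} {cs : List ℕ}
    (hin : In gc H cs) (h : lowErr levels cs = 0) : (levels.map fun l => l.2.1).prod ≤ Nat.card H := by
  induction levels generalizing H cs with
  | nil => exact Nat.card_pos
  | cons l levels ih =>
    have e : lowErr (l :: levels) cs = forceL (evCs cs l.2.2) fun cs' =>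
      Nat.add (Nat.add (Nat.add (shErr l.1) (isZ l.2.1))
        (Nat.xor (bfs vact (mapL prep cs) l.1 (Nat.succ l.2.1) fun L _ => lenL L) l.2.1))
        (Nat.add (sumL (fun c => Nat.xor (ap1 c l.1) l.1) cs') (lowErr levels cs')) := rfl
    rw [e, forceL_eq] at h
    obtain ⟨h1, h2⟩ := add_eq_zero_iff'.1 h
    obtain ⟨h1, h3⟩ := add_eq_zero_iff'.1 h1
    obtain ⟨h1, h4⟩ := add_eq_zero_iff'.1 h1
    obtain ⟨h2, h5⟩ := add_eq_zero_iff'.1 h2
    obtain ⟨v, hv, ev⟩ := exists_of_shErr h1
    have h6 := ih (in_stab (in_evCs hin _) hv ev h2) h5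
    rw [← ev] at h3
    obtain ⟨L, t, h7, h8⟩ := Golay.bfs_spec (xor_eq_zero' h3) (Golay.isZ_eq_zero_iff.1 h4)
    have h9 := isCAct.length_le_ncard le_top hin hv h8 (S := orbit H v) (Set.finite_range _)
      fun g hg => mem_orbit_sub.2 ⟨g, hg, rfl⟩
    rw [List.map_cons, List.prod_cons, Golay.card_eq_orbit_mul H v]
    exact Nat.mul_le_mul (by rw [← h7, Golay.lenL_eq]; exact h9) h6

theorem eq_of_lowErr {levels : List (ℕ × ℕ × List (List ℕ))} {F H : Subgroup Co0} {cs : List ℕ}
    (hin : In gc F cs) (hF : F ≤ H) {N : ℕ} (hN : Nat.card H ≤ N)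
    (h : Nat.add (lowErr levels cs) (Nat.xor (levels.map fun l => l.2.1).prod N) = 0) : F = H := by
  obtain ⟨h1, h2⟩ := add_eq_zero_iff'.1 h
  exact Subgroup.eq_of_le_of_card_ge hF (hN.trans (xor_eq_zero' h2 ▸ le_card_of_lowErr hin h1))

/-- one if all values vanish -/
noncomputable def allZ (f : ℕ → ℕ) (l : List ℕ) (k : ℕ) : ℕ :=
  List.rec (motive := fun _ => ℕ) k
    (fun x _ ih => Nat.rec (motive := fun _ => ℕ) ih (fun _ _ => nat_lit 0) (f x)) l

theorem allZ_eq {f : ℕ → ℕ} {l : List ℕ} (k : ℕ) (h : ∀ x ∈ l, f x = 0) : allZ f l k = k := by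
  induction l with
  | nil => rfl
  | cons x l ih =>
    have : allZ f (x :: l) k = Nat.rec (motive := fun _ => ℕ) (allZ f l k) (fun _ _ => nat_lit 0) (f x) :=
      rfl
    rw [this, h x (by simp)]
    exact ih fun y hy => h y (by simp [hy])

/-- the inner product of codes -/
def dd (a n : ℕ) : ℕ := dt (rD a) (rK (rD a)) n

theorem dd_eq {a b a' b' : leechLattice} (h1 : Sh a) (h2 : Sh b) (h3 : Sh a') (h4 : Sh b')
    (e : dotInt (a : V) (b : V) = dotInt (a' : V) (b' : V)) : dd (cd a) (cd b) = dd (cd a') (cd b') := by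
  have e1 := dt_enc h2.bd h1.bd
  have e2 := dt_enc h4.bd h3.bd
  rw [dot_comm, e, dot_comm, ← e2] at e1
  exact Int.ofNat_inj.1 e1

theorem dd_cast {a b : leechLattice} (h1 : Sh a) (h2 : Sh b) :
    (dd (cd a) (cd b) : ℤ) = dotInt (a : V) (b : V) + 524288 := by
  rw [dot_comm]; exact dt_enc h2.bd h1.bd

/-- one if `n` looks like `y` -/
noncomputable def cand (Xs B : List ℕ) (y n : ℕ) : ℕ :=
  allZ (fun b => Nat.xor (dd b n) (dd b y)) B
    (allZ (fun X => Nat.xor (dd n (vact X n)) (dd y (vact X y))) Xs (nat_lit 1))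

/-- the vectors with codes in `B` are fixed by `K` -/
def Fixes (K : Subgroup Co0) (B : List ℕ) : Prop :=
  ∀ b ∈ B, ∃ v, Sh v ∧ cd v = b ∧ ∀ g ∈ K, g • v = v

/-- the elements with codes in `xs` commute with `K` -/
def Comm (K : Subgroup Co0) (xs : List ℕ) : Prop :=
  ∀ c ∈ xs, ∃ x, gc x = c ∧ ∀ g ∈ K, g * x = x * g

theorem Sh.smul {v : leechLattice} (h : Sh v) (g : Co0) : Sh (g • v) := isCAct.smul g trivial v h

theorem vact_gc (g : Co0) {v : leechLattice} (h : Sh v) : vact (prep (gc g)) (cd v) = cd (g • v) :=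
  isCAct.act_eq g trivial v h

theorem cand_eq_one {K : Subgroup Co0} {xs B : List ℕ} (hx : Comm K xs) (hB : Fixes K B)
    {y : leechLattice} (hy : Sh y) {g : Co0} (hg : g ∈ K) :
    cand (mapL prep xs) B (cd y) (cd (g • y)) = 1 := by
  unfold cand
  refine (allZ_eq _ ?_).trans (allZ_eq _ ?_)
  swap
  · intro X hX
    rw [mapL_eq] at hX
    obtain ⟨c, hc, rfl⟩ := List.mem_map.1 hX
    obtain ⟨x, rfl, e⟩ := hx c hc
    rw [vact_gc x hy, vact_gc x (hy.smul g), Golay.xor_eq_zero_iff']
    refine dd_eq (hy.smul g) ((hy.smul g).smul x) hy (hy.smul x) ?_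
    rw [← mul_smul, ← e g hg, mul_smul, dot_smul]
  · intro b hb
    obtain ⟨v, hv, rfl, e⟩ := hB b hb
    rw [Golay.xor_eq_zero_iff']
    refine dd_eq hv (hy.smul g) hv hy ?_
    rw [← dot_smul g v y, e g hg]

/-- a linear combination, at one coordinate -/
def combo (w : List ℤ) (B : List ℕ) (i : ℕ) : ℤ :=
  (List.zipWith (fun (a : ℤ) (z : ℕ) => a * ((get 5 z i : ℤ) - 8)) w B).sum

/-- zero if the vectors coded in `B` span a sublattice of finite index -/
noncomputable def spanErr (W : List (List ℤ)) (d : ℕ) (B : List ℕ) : ℕ :=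
  Nat.add (isZ d) (sumTo (fun j => sumTo (fun i =>
    (combo (W.getD j []) B i - (Nat.mul d (isZ (Nat.xor i j)) : ℕ)).natAbs) (nat_lit 24)) (nat_lit 24))

theorem exists_combo {K : Subgroup Co0} {B : List ℕ} (hB : Fixes K B) (w : List ℤ) :
    ∃ v : leechLattice, (∀ p, (v : V) p = combo w B (gE.enc p)) ∧ ∀ g ∈ K, g • v = v := by
  induction B generalizing w with
  | nil => exact ⟨0, fun p => by simp [combo], fun g _ => smul_zero g⟩
  | cons b B ih =>
    cases w with
    | nil => exact ⟨0, fun p => by simp [combo], fun g _ => smul_zero g⟩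
    | cons a w =>
      obtain ⟨v, h1, h2⟩ := ih (fun b hb => hB b (by simp [hb])) w
      obtain ⟨z, hz, rfl, h3⟩ := hB b (by simp)
      refine ⟨a • z + v, fun p => ?_, fun g hg => by rw [smul_add, smul_zsmul, h2 g hg, h3 g hg]⟩
      have := get_enc hz.bd p
      simp only [combo, List.zipWith_cons_cons, List.sum_cons, cd, this] at h1 ⊢
      simp [h1 p]

theorem eq_bot_of_spanErr {K : Subgroup Co0} {B : List ℕ} (hB : Fixes K B) {W : List (List ℤ)} {d : ℕ}
    (h : spanErr W d B = 0) : K = ⊥ := by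
  obtain ⟨h0, h⟩ := add_eq_zero_iff'.1 h
  have hd : (d : ℤ) ≠ 0 := by exact_mod_cast Golay.isZ_eq_zero_iff.1 h0
  rw [eq_bot_iff]
  intro g hg
  refine Subgroup.mem_bot.2 (co0_ext_e8 fun j => ?_)
  obtain ⟨v, h1, h2⟩ := exists_combo hB (W.getD (gE.enc j) [])
  have h3 : (8 : ℤ) • v = (d : ℤ) • e8 j := by
    apply Subtype.ext
    funext p
    have := Golay.sumTo_eq_zero (Golay.sumTo_eq_zero h _ (gE.enc_lt j)) _ (gE.enc_lt p)
    rw [Int.natAbs_eq_zero, sub_eq_zero, ← h1, Golay.isZ_eq, Nat.mul_eq] at this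
    simp only [Golay.xor_eq_zero_iff', gE.enc_injective.eq_iff] at this
    simp only [AddSubgroup.coe_zsmul, Pi.smul_apply, this, e8_apply, smul_eq_mul]
    split_ifs <;> simp [mul_comm]
  have h4 : (d : ℤ) • (g • e8 j) = (d : ℤ) • e8 j := by
    rw [← smul_zsmul, ← h3, smul_zsmul, h2 g hg]
  rw [one_smul]
  apply Subtype.ext
  funext p
  have := congrFun (congrArg Subtype.val h4) p
  simp only [AddSubgroup.coe_zsmul, Pi.smul_apply, smul_eq_mul] at this
  exact mul_left_cancel₀ hd this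

/-- images followed by a list -/
noncomputable def consMap (f : ℕ → ℕ) (l r : List ℕ) : List ℕ :=
  List.rec (motive := fun _ => List ℕ) r (fun X _ ih => f X :: ih) l

theorem consMap_eq (f : ℕ → ℕ) (l r : List ℕ) : consMap f l r = l.map f ++ r := by
  induction l with
  | nil => rfl
  | cons x l ih => exact congrArg (f x :: ·) ih

/-- zero if the numbers of candidates are as claimed -/
noncomputable def upErr (Xs : List ℕ) (W : List (List ℤ)) (d : ℕ) (L : List ℕ) (levels : List (ℕ × ℕ)) :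
    List ℕ → ℕ :=
  List.rec (motive := fun _ => List ℕ → ℕ) (spanErr W d)
    (fun l _ ih B => Nat.add (Nat.add (isZ (sumL (fun n => isZ (Nat.xor n l.1)) L))
      (Nat.xor (sumL (cand Xs B l.1) L) l.2))
      (forceL (consMap (fun X => vact X l.1) Xs (l.1 :: B)) ih))
    levels

theorem orbit_le_cand {K : Subgroup Co0} {xs B : List ℕ} (hx : Comm K xs) (hB : Fixes K B)
    {y : leechLattice} (hy : Sh y) {L : List ℕ} (hL : ∀ g ∈ K, cd (g • y) ∈ L) :
    (orbit K y).ncard ≤ sumL (cand (mapL prep xs) B (cd y)) L := by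
  classical
  have h1 : Set.InjOn cd (orbit K y) := by
    rintro _ ⟨g, rfl⟩ _ ⟨g', rfl⟩ e
    exact isCAct.inj _ _ (hy.smul g) (hy.smul g') e
  rw [← h1.ncard_image, Golay.sumL_eq]
  generalize hf : cand (mapL prep xs) B (cd y) = f
  have h2 : cd '' orbit K y ⊆ ((L.filter fun n => f n = 1).toFinset : Set ℕ) := by
    rintro _ ⟨_, ⟨g, rfl⟩, rfl⟩
    simp only [List.coe_toFinset, List.mem_filter, decide_eq_true_eq, Set.mem_ofPred_eq]
    exact ⟨hL g g.2, hf ▸ cand_eq_one hx hB hy g.2⟩
  refine (Set.ncard_le_ncard h2).trans ?_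
  rw [Set.ncard_coe_finset]
  refine (List.toFinset_card_le _).trans ?_
  clear h2 hL
  induction L with
  | nil => simp
  | cons n L ih =>
    rw [List.filter_cons, List.map_cons, List.sum_cons]
    split_ifs with h
    · have : f n = 1 := by simpa using h
      rw [List.length_cons]; omega
    · omega

theorem Fixes.step {K : Subgroup Co0} {xs B : List ℕ} (hx : Comm K xs) (hB : Fixes K B)
    {y : leechLattice} (hy : Sh y) : Fixes (K ⊓ stabilizer Co0 y)
      (consMap (fun X => vact X (cd y)) (mapL prep xs) (cd y :: B)) := by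
  intro b hb
  rw [consMap_eq, mapL_eq, List.map_map, List.mem_append, List.mem_map, List.mem_cons] at hb
  rcases hb with ⟨c, hc, e⟩ | e | hb
  · obtain ⟨x, e1, e2⟩ := hx c hc
    refine ⟨x • y, hy.smul x, ?_, fun g hg => ?_⟩
    · rw [← vact_gc x hy, e1, ← e, Function.comp_apply]
    · rw [← mul_smul, e2 g hg.1, mul_smul, hg.2]
  · exact ⟨y, hy, e.symm, fun g hg => hg.2⟩
  · obtain ⟨v, h1, h2, h3⟩ := hB b hb
    exact ⟨v, h1, h2, fun g hg => h3 g hg.1⟩

theorem card_le_of_upErr {S : Set leechLattice} (hS : ∀ x ∈ S, Sh x) {L : List ℕ}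
    (hL : ∀ n, n ∈ L ↔ ∃ x ∈ S, cd x = n) {xs : List ℕ} {W : List (List ℤ)} {d : ℕ}
    {levels : List (ℕ × ℕ)} {K : Subgroup Co0} {B : List ℕ} (hx : Comm K xs) (hB : Fixes K B)
    (hK : ∀ g ∈ K, ∀ y ∈ S, g • y ∈ S) (h : upErr (mapL prep xs) W d L levels B = 0) :
    Nat.card K ≤ (levels.map fun l => l.2).prod := by
  induction levels generalizing K B with
  | nil => rw [eq_bot_of_spanErr hB h]; simp
  | cons l levels ih =>
    have e : upErr (mapL prep xs) W d L (l :: levels) B =
      Nat.add (Nat.add (isZ (sumL (fun n => isZ (Nat.xor n l.1)) L))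
      (Nat.xor (sumL (cand (mapL prep xs) B l.1) L) l.2))
      (forceL (consMap (fun X => vact X l.1) (mapL prep xs) (l.1 :: B))
        (upErr (mapL prep xs) W d L levels)) := rfl
    rw [e, forceL_eq] at h
    obtain ⟨h1, h2⟩ := add_eq_zero_iff'.1 h
    obtain ⟨h1, h3⟩ := add_eq_zero_iff'.1 h1
    have h4 : l.1 ∈ L := by
      by_contra hh
      apply Golay.isZ_eq_zero_iff.1 h1
      rw [Golay.sumL_eq, List.sum_eq_zero_iff]
      intro m hm
      obtain ⟨n, hn, rfl⟩ := List.mem_map.1 hm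
      rw [Golay.isZ_eq_zero_iff]
      intro e
      exact hh (xor_eq_zero' e ▸ hn)
    obtain ⟨y, hy, ey⟩ := (hL _).1 h4
    rw [← ey] at h2 h3
    have h5 := ih (K := K ⊓ stabilizer Co0 y) (fun c hc => by
      obtain ⟨x, e1, e2⟩ := hx c hc
      exact ⟨x, e1, fun g hg => e2 g hg.1⟩) (hB.step hx (hS y hy)) (fun g hg => hK g hg.1) h2
    have h6 := orbit_le_cand hx hB (hS y hy) (L := L) fun g hg => (hL _).2 ⟨_, hK g hg y hy, rfl⟩
    rw [List.map_cons, List.prod_cons, Golay.card_eq_orbit_mul K y]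
    exact Nat.mul_le_mul (xor_eq_zero' h3 ▸ h6) h5

/-- upper bound for the order of a subgroup that commutes with `xs` and fixes `B` -/
theorem card_le_of_bfs {H : Subgroup Co0} {cs : List ℕ} (hin : In gc H cs) {x0 : leechLattice} {c0 : ℕ}
    (hc0 : cd x0 = c0) {S : Set leechLattice} (hS : ∀ x ∈ S, sqNorm (x : V) = 32) {N : ℕ}
    (hcard : S.ncard = N) (hx0 : x0 ∈ S) (hsub : ∀ g ∈ H, ∀ y ∈ S, g • y ∈ S) (hN : N ≠ 0 ∧ N < 2 ^ 20)
    (xs : List ℕ) (W : List (List ℤ)) (d : ℕ) (levels : List (ℕ × ℕ)) (B : List ℕ) {K : Subgroup Co0}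
    (hK : K ≤ H) (hx : Comm K xs) (hB : Fixes K B)
    (h : bfs vact (mapL prep cs) c0 (N + 1)
      (finF fun L => forceL (mapL prep xs) fun Xs => upErr Xs W d L levels B) = N) :
    Nat.card K ≤ (levels.map fun l => l.2).prod := by
  have hS' : ∀ x ∈ S, Sh x := fun x hx => (hS x hx).le.trans (by norm_num)
  obtain ⟨L, h1, -, -, h2⟩ := orbit_list hin hc0 hS' ((finite_norm_sub 32).subset hS) hcard
    (fun g hg => hsub g hg _ hx0) _ (N + 1) 0 hN (by rw [h]; simp)
  rw [forceL_eq] at h1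
  exact card_le_of_upErr hS' h2 hx hB (fun g hg => hsub g (hK hg)) h1

theorem isCActG : IsCAct gc ⊤ (fun _ : Co0 => True) gc (fun c => c) gmul :=
  ⟨fun _ _ _ _ => trivial, fun _ _ _ _ h => gc_injective h, fun g _ x _ => gmul_gc g x⟩

/-- a test on all the elements of a small subgroup -/
theorem forall_of_bfsG {K : Subgroup Co0} {cs : List ℕ} (hin : In gc K cs) {N : ℕ} (hK : Nat.card K ≤ N)
    (e : ℕ → ℕ) (hN : N ≠ 0 ∧ N < 2 ^ 20)
    (h : bfs gmul (mapL (fun c => c) cs) gone (N + 1) (finF (sumL e)) = N) :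
    ∀ g ∈ K, e (gc g) = 0 := by
  classical
  rw [← gc_one] at h
  obtain ⟨L, t, h1, h2⟩ := Golay.bfs_spec h hN.1
  have h3 := isCActG.length_le_ncard le_top hin trivial h2 (S := K) (Set.toFinite _)
    fun g hg => by simpa using hg
  rw [← Nat.card_coe_set_eq] at h3
  have h3' : L.length ≤ Nat.card K := h3
  unfold finF at h1
  rw [Nat.add_eq, Nat.shiftLeft_eq', Nat.shiftLeft_eq, Golay.lenL_eq] at h1
  generalize hs : sumL e L = s at h1
  have h1' : L.length + s * 2 ^ 20 = N := h1
  have h4 : s = 0 := by omega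
  have h6 : (L.toFinset : Set ℕ) = gc '' K := by
    refine Set.eq_of_subset_of_ncard_le ?_ ?_ (Set.toFinite _)
    · intro m hm
      obtain ⟨g, hg, e⟩ := isCActG.reach le_top hin trivial h2 m (by simpa using hm)
      exact ⟨_, by simpa using hg, e⟩
    · rw [Set.ncard_image_of_injective _ gc_injective, Set.ncard_coe_finset,
        List.toFinset_card_of_nodup h2.nodup, ← Nat.card_coe_set_eq]
      show Nat.card K ≤ _
      omega
  intro g hg
  refine Golay.sumL_eq_zero (hs.trans h4) _ ?_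
  have : gc g ∈ (L.toFinset : Set ℕ) := h6 ▸ ⟨g, hg, rfl⟩
  simpa using this

theorem in_cent {H : Subgroup Co0} {cs : List ℕ} (hin : In gc H cs) {x : Co0} {X : ℕ} (hX : gc x = X)
    (h : sumL (fun c => Nat.xor (gmul c X) (gmul X c)) cs = 0) :
    In gc (H ⊓ Subgroup.centralizer {x}) cs := fun c hc => by
  obtain ⟨g, hg, rfl⟩ := hin c hc
  refine ⟨g, ⟨hg, Subgroup.mem_centralizer_singleton_iff.2 (gc_injective ?_)⟩, rfl⟩
  rw [← gmul_gc, ← gmul_gc, hX]
  exact xor_eq_zero' (Golay.sumL_eq_zero h _ hc)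

/-- the first powers of a code -/
noncomputable def pows (X n : ℕ) : List ℕ :=
  Nat.rec (motive := fun _ => List ℕ) [] (fun k ih => pwG X (Nat.succ k) :: ih) n

theorem comm_pows {K : Subgroup Co0} {x : Co0} {X : ℕ} (hX : gc x = X)
    (h : K ≤ Subgroup.centralizer {x}) (n : ℕ) : Comm K (pows X n) := by
  subst hX
  induction n with
  | zero => intro c hc; cases hc
  | succ n ih =>
    intro c hc
    rcases List.mem_cons.1 hc with rfl | hc
    · exact ⟨_, (pwG_gc x _).symm, fun g hg =>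
        (Commute.pow_right (Subgroup.mem_centralizer_singleton_iff.1 (h hg)) _)⟩
    · exact ih c hc

theorem fixes_nil (K : Subgroup Co0) : Fixes K [] := fun _ h => by cases h

theorem Fixes.cons {K : Subgroup Co0} {B : List ℕ} (h : Fixes K B) {v : leechLattice} (hv : Sh v) {b : ℕ}
    (e : cd v = b) (hK : K ≤ stabilizer Co0 v) : Fixes K (b :: B) := fun c hc => by
  rcases List.mem_cons.1 hc with rfl | hc
  · exact ⟨v, hv, e, hK⟩
  · exact h c hc

end Cfsg.Agent.Leech
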