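import Cfsg.Agent.Leech.Co0
import Cfsg.Agent.Golay.M24Basic

/-! Packed codes for short vectors of the Leech lattice and for elements of `Co0`, and kernel-friendly
operations on them. -/

set_option autoImplicit false

namespace Cfsg.Agent.Leech
open Cfsg Finset
open Cfsg.Agent.Golay (gE get pack get_pack pack_get pack_lt get_lt get_eq pack_congr spread spread_eq
  vm vm_eq packC packC_eq force force_eq sumTo sumTo_eq sumTo_eq_zero ones ones_eq TA um
  xor_eq_zero' add_eq_zero_iff' land_pack pack_eq_zero get_land)

/-- the code of a vector -/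
def enc (x : V) : ℕ := pack 5 (fun k => (x (gE.dec k) + 8).toNat) 24

/-- the vector with a given code -/
def dec (n : ℕ) : V := fun p => (get 5 n (gE.enc p) : ℤ) - 8

/-- vectors that have a code -/
def Bd (x : V) : Prop := ∀ p, -8 ≤ x p ∧ x p < 24

theorem bd_of_norm {x : V} (h : sqNorm x ≤ 80) : Bd x := fun p => by
  have := sq_le_sqNorm x p
  constructor <;> nlinarith

theorem bd_dec (n : ℕ) : Bd (dec n) := fun p => by
  have := get_lt 5 n (gE.enc p)
  unfold dec; omega

theorem Bd.lt {x : V} (h : Bd x) (k : ℕ) : (x (gE.dec k) + 8).toNat < 2 ^ 5 := by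
  have := h (gE.dec k); omega

theorem enc_lt {x : V} (h : Bd x) : enc x < 2 ^ 120 := pack_lt (w := 5) (n := 24) fun k _ => h.lt k

theorem get_enc {x : V} (h : Bd x) (p : GolayPt) : (get 5 (enc x) (gE.enc p) : ℤ) = x p + 8 := by
  unfold enc
  rw [get_pack fun k _ => h.lt k, if_pos (gE.enc_lt p), gE.dec_enc]
  have := h p; omega

theorem dec_enc {x : V} (h : Bd x) : dec (enc x) = x := by
  funext p; unfold dec; rw [get_enc h]; ring

theorem enc_dec {n : ℕ} (h : n < 2 ^ 120) : enc (dec n) = n := by
  refine Eq.trans ?_ (pack_get (w := 5) (n := 24) (by norm_num) h)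
  apply pack_congr
  intro i hi
  simp only [dec, gE.enc_dec i hi]
  omega

theorem enc_inj {x y : V} (hx : Bd x) (hy : Bd y) (h : enc x = enc y) : x = y := by
  rw [← dec_enc hx, h, dec_enc hy]

theorem get_eq_dec (n : ℕ) (p : GolayPt) : (get 5 n (gE.enc p) : ℤ) = dec n p + 8 := by
  unfold dec; ring

/-- all digits one -/
def O5 : ℕ := 0x84210842108421084210842108421

/-- the linear part of the code -/
def EE (x : V) : ℤ := ∑ p, x p * 2 ^ (5 * gE.enc p)

theorem enc_cast {x : V} (h : Bd x) : (enc x : ℤ) = EE x + 8 * O5 := by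
  have h1 : (O5 : ℤ) = ∑ p : GolayPt, 2 ^ (5 * gE.enc p) := by
    rw [← gE.sum_range (fun i => (2 : ℤ) ^ (5 * i))]; decide +kernel
  unfold enc pack EE
  rw [h1, gE.sum_range, Finset.mul_sum, ← Finset.sum_add_distrib]
  push_cast
  refine Finset.sum_congr rfl fun p _ => ?_
  rw [gE.dec_enc, Int.toNat_of_nonneg (by have := h p; omega)]
  ring

theorem cast_eq_EE {n : ℕ} (h : n < 2 ^ 120) : (n : ℤ) = EE (dec n) + 8 * O5 := by
  rw [← enc_cast (bd_dec n), enc_dec h]

/-- constant -/
def SP1 : ℕ := 0x2000000000000000000000000000000000004000000000000000000000000000000000008000000000000000000000000000000000010000000000000000000000000000000000020000000000000000000000000000000000040000000000000000000000000000000000080000000000000000000000000000000000100000000000000000000000000000000000200000000000000000000000000000000000400000000000000000000000000000000000800000000000000000000000000000000001000000000000000000000000000000000002000000000000000000000000000000000004000000000000000000000000000000000008000000000000000000000000000000000010000000000000000000000000000000000020000000000000000000000000000000000040000000000000000000000000000000000080000000000000000000000000000000000100000000000000000000000000000000000200000000000000000000000000000000000400000000000000000000000000000000000800000000000000000000000000000000001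
/-- constant -/
def SP2 : ℕ := 0x1f000000000000000000000000000000000001f000000000000000000000000000000000001f000000000000000000000000000000000001f000000000000000000000000000000000001f000000000000000000000000000000000001f000000000000000000000000000000000001f000000000000000000000000000000000001f000000000000000000000000000000000001f000000000000000000000000000000000001f000000000000000000000000000000000001f000000000000000000000000000000000001f000000000000000000000000000000000001f000000000000000000000000000000000001f000000000000000000000000000000000001f000000000000000000000000000000000001f000000000000000000000000000000000001f000000000000000000000000000000000001f000000000000000000000000000000000001f000000000000000000000000000000000001f000000000000000000000000000000000001f000000000000000000000000000000000001f000000000000000000000000000000000001f000000000000000000000000000000000001f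

/-- digits spread out to distance 148 -/
def spr (n : ℕ) : ℕ := Nat.land (Nat.mul n SP1) SP2

theorem spr_eq {n : ℕ} (h : n < 2 ^ 120) : spr n = pack 148 (get 5 n) 24 := by
  rw [← spread_eq (by norm_num) (by norm_num) h]
  have h1 : packC (Nat.sub 148 5) (fun _ => nat_lit 1) 24 = SP1 := by decide +kernel
  have h2 : packC 148 (fun _ => ones 5) 24 = SP2 := by decide +kernel
  unfold spread spr
  rw [h1, h2]

/-- vector times matrix -/
def mv (D n : ℕ) : ℕ := Nat.shiftRight (Nat.mul (spr n) D) (nat_lit 3404)

theorem mv_eq {n : ℕ} (h : n < 2 ^ 120) {r : ℕ → ℕ} (hr : ∀ j < 24, r j ≤ 2 ^ 133) :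
    mv (pack 148 (fun i => r (23 - i)) 24) n % 2 ^ 148 = ∑ j ∈ range 24, get 5 n j * r j := by
  rw [← vm_eq (n := 24) (W := 148) (F := 31) (R := 2 ^ 133) (by norm_num)
    (fun i _ => Nat.le_of_lt_succ (get_lt 5 n i)) hr (by norm_num), ← spr_eq h]
  unfold mv vm
  rw [get_eq, Nat.shiftRight_eq, Nat.shiftRight_eq_div_pow]

theorem mv_cast {n : ℕ} (h : n < 2 ^ 120) {r : ℕ → ℕ} (hr : ∀ j < 24, r j ≤ 2 ^ 133) (b : ℕ)
    (hb : b ≤ 148) (s : GolayPt → ℤ) (hs : ∀ p, (r (gE.enc p) : ℤ) ≡ s p [ZMOD 2 ^ b]) :
    (mv (pack 148 (fun i => r (23 - i)) 24) n : ℤ) ≡ ∑ p, (dec n p + 8) * s p [ZMOD 2 ^ b] := by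
  have h1 := mv_eq h hr
  have h2 : (mv (pack 148 (fun i => r (23 - i)) 24) n : ℤ) ≡
      ((mv (pack 148 (fun i => r (23 - i)) 24) n % 2 ^ 148 : ℕ) : ℤ) [ZMOD 2 ^ b] := by
    apply Int.ModEq.of_dvd (pow_dvd_pow 2 hb)
    push_cast
    exact (Int.mod_modEq _ _).symm
  refine h2.trans ?_
  rw [h1, gE.sum_range]
  push_cast
  apply Int.ModEq.sum
  intro p _
  rw [get_eq_dec]
  exact (hs p).mul_left _

/-- the code of the zero vector -/
def Z8 : ℕ := 0x421084210842108421084210842108

theorem Z8_lt : Z8 < 2 ^ 120 := by decide +kernel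

theorem dec_Z8 : dec Z8 = 0 := by
  have : ∀ k < 24, get 5 Z8 k = 8 := by decide +kernel
  funext p
  simp [dec, this _ (gE.enc_lt p)]

theorem land_ones (a b : ℕ) : Nat.land a (2 ^ b - 1) = a % 2 ^ b := Nat.and_two_pow_sub_one_eq_mod a b

/-- the affine correction -/
theorem affine_eq {n : ℕ} (h : n < 2 ^ 120) {r : ℕ → ℕ} (hr : ∀ j < 24, r j ≤ 2 ^ 133) (b : ℕ)
    (hb : b ≤ 148) (s : GolayPt → ℤ) (hs : ∀ p, (r (gE.enc p) : ℤ) ≡ s p [ZMOD 2 ^ b])
    (C t : ℕ) (ht : t < 2 ^ b) (e : (t : ℤ) = C + ∑ p, dec n p * s p) :
    (mv (pack 148 (fun i => r (23 - i)) 24) n +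
      (C + 2 ^ b - mv (pack 148 (fun i => r (23 - i)) 24) Z8 % 2 ^ b)) % 2 ^ b = t := by
  have h1 := mv_cast h hr b hb s hs
  have h2 := mv_cast Z8_lt hr b hb s hs
  rw [dec_Z8] at h2
  set A := mv (pack 148 (fun i => r (23 - i)) 24) n
  set B := mv (pack 148 (fun i => r (23 - i)) 24) Z8
  have h3 : B % 2 ^ b < 2 ^ b := Nat.mod_lt _ (by positivity)
  rw [← Nat.mod_eq_of_lt ht]
  have : ((A + (C + 2 ^ b - B % 2 ^ b) : ℕ) : ℤ) ≡ t [ZMOD 2 ^ b] := by
    rw [Nat.cast_add, Nat.cast_sub (by omega), e]
    push_cast
    have h4 : (B : ℤ) % 2 ^ b ≡ ∑ p, ((0 : V) p + 8) * s p [ZMOD 2 ^ b] :=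
      (Int.mod_modEq _ _).trans h2
    have h5 : ((2 : ℤ) ^ b) ≡ 0 [ZMOD 2 ^ b] := by simp [Int.ModEq]
    have h6 := h1.add (((Int.ModEq.refl (C : ℤ)).add h5).sub h4)
    convert h6 using 1
    simp only [add_mul, Finset.sum_add_distrib, Pi.zero_apply, zero_mul, Finset.sum_const_zero]
    ring
  have h7 := Int.natCast_modEq_iff.1 (by exact_mod_cast this : ((A + (C + 2 ^ b - B % 2 ^ b) : ℕ) : ℤ) ≡
    (t : ℕ) [ZMOD ((2 ^ b : ℕ) : ℤ)])
  exact h7

/-- constant -/
def NEGM : ℕ := 0x7bdef7bdef7bdef7bdef7bdef7bdef80000007bdef7bdef7bdef7bdef7bdef7bdef80000007bdef7bdef7bdef7bdef7bdef7bdef80000007bdef7bdef7bdef7bdef7bdef7bdef80000007bdef7bdef7bdef7bdef7bdef7bdef80000007bdef7bdef7bdef7bdef7bdef7bdef80000007bdef7bdef7bdef7bdef7bdef7bdef80000007bdef7bdef7bdef7bdef7bdef7bdef80000007bdef7bdef7bdef7bdef7bdef7bdef80000007bdef7bdef7bdef7bdef7bdef7bdef80000007bdef7bdef7bdef7bdef7bdef7bdef80000007bdef7bdef7bdef7bdef7bdef7bdef80000007bdef7bdef7bdef7bdef7bdef7bdef80000007bdef7bdef7bdef7bdef7bdef7bdef80000007bdef7bdef7bdef7bdef7bdef7bdef80000007bdef7bdef7bdef7bdef7bdef7bdef80000007bdef7bdef7bdef7bdef7bdef7bdef80000007bdef7bdef7bdef7bdef7bdef7bdef80000007bdef7bdef7bdef7bdef7bdef7bdef80000007bdef7bdef7bdef7bdef7bdef7bdef80000007bdef7bdef7bdef7bdef7bdef7bdef80000007bdef7bdef7bdef7bdef7bdef7bdef80000007bdef7bdef7bdef7bdef7bdef7bdef80000007bdef7bdef7bdef7bdef7bdef7bdef8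
/-- constant -/
def M123 : ℕ := 0x7ffffffffffffffffffffffffffffff
/-- constant -/
def K0 : ℕ := 0xa108421084210842108421084210840

/-- the matrix of a code -/
def mD (c : ℕ) : ℕ := Nat.add c NEGM
/-- the constant of a matrix -/
def mK (D : ℕ) : ℕ := Nat.sub K0 (Nat.land (mv D Z8) M123)
/-- applying a matrix to a vector -/
def ap (D K n : ℕ) : ℕ := Nat.shiftRight (Nat.land (Nat.add (mv D n) K) M123) (nat_lit 3)

theorem pack_add (w n : ℕ) (f g : ℕ → ℕ) :
    pack w f n + pack w g n = pack w (fun i => f i + g i) n := by
  simp only [pack, add_mul, Finset.sum_add_distrib]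

theorem ap_eq {n : ℕ} (h : n < 2 ^ 120) {r : ℕ → ℕ} (hr : ∀ j < 24, r j < 2 ^ 120) {y : V}
    (hy : Bd y) (e : ∀ i, ∑ j, dec (r (gE.enc j)) i * dec n j = 8 * y i) :
    ap (mD (pack 148 (fun i => r (23 - i)) 24)) (mK (mD (pack 148 (fun i => r (23 - i)) 24))) n =
      enc y := by
  have h1 : NEGM = pack 148 (fun _ => 2 ^ 123 - 8 * O5) 24 := by
    rw [← packC_eq]; decide +kernel
  have h2 : mD (pack 148 (fun i => r (23 - i)) 24) =
      pack 148 (fun i => (fun j => r j + (2 ^ 123 - 8 * O5)) (23 - i)) 24 := by
    rw [mD, Nat.add_eq, h1, pack_add]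
  have h3 : M123 = 2 ^ 123 - 1 := by decide +kernel
  have h4 : K0 = 64 * O5 + 2 ^ 123 := by decide +kernel
  have h5 : 8 * O5 ≤ 2 ^ 123 := by decide +kernel
  have h6 := affine_eq h (r := fun j => r j + (2 ^ 123 - 8 * O5)) (fun j hj => by
      have := hr j hj; omega) 123 (by norm_num) (fun p => EE (dec (r (gE.enc p)))) (fun p => by
      rw [Nat.cast_add, Nat.cast_sub h5, cast_eq_EE (hr _ (gE.enc_lt p))]
      push_cast
      rw [Int.modEq_iff_dvd]
      exact ⟨-1, by ring⟩) (64 * O5) (8 * enc y) (by have := enc_lt hy; omega) (by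
      push_cast
      rw [enc_cast hy]
      have : ∑ p, dec n p * EE (dec (r (gE.enc p))) = 8 * EE y := by
        simp only [EE, Finset.mul_sum]
        rw [Finset.sum_comm]
        refine Finset.sum_congr rfl fun i _ => ?_
        rw [← mul_assoc, ← e i, Finset.sum_mul]
        exact Finset.sum_congr rfl fun j _ => by ring
      rw [this]; ring)
  unfold ap mK
  rw [h2, h3, h4, land_ones, land_ones]
  rw [Nat.add_eq, Nat.sub_eq, h6, Nat.shiftRight_eq, Nat.shiftRight_eq_div_pow]
  show 8 * enc y / 2 ^ 3 = _
  omega

/-- the code of an element of `Co0` -/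
noncomputable def gc (g : Co0) : ℕ :=
  pack 148 (fun i => (fun j => enc ((g • e8 (gE.dec j) : leechLattice) : V)) (23 - i)) 24

theorem bd_smul (g : Co0) {x : leechLattice} (h : sqNorm (x : V) ≤ 80) :
    Bd ((g • x : leechLattice) : V) := bd_of_norm (by rw [norm_smul]; exact h)

theorem bd_col (g : Co0) (j : GolayPt) : Bd ((g • e8 j : leechLattice) : V) :=
  bd_smul g (by rw [e8_norm]; norm_num)

theorem ap_gc (g : Co0) {x : leechLattice} (h : sqNorm (x : V) ≤ 80) :
    ap (mD (gc g)) (mK (mD (gc g))) (enc x) = enc ((g • x : leechLattice) : V) := by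
  have hb := bd_of_norm h
  refine ap_eq (enc_lt hb) (fun j _ => enc_lt (bd_col g _)) (bd_smul g h) fun i => ?_
  rw [mat_mulVec, dec_enc hb]
  refine Finset.sum_congr rfl fun j _ => ?_
  rw [dec_enc (bd_col g _), gE.dec_enc]; rfl

theorem get_gc (g : Co0) {i : ℕ} (hi : i < 24) :
    get 148 (gc g) i = enc ((g • e8 (gE.dec (23 - i)) : leechLattice) : V) := by
  unfold gc
  rw [get_pack (fun k _ => lt_trans (enc_lt (bd_col g _)) (by norm_num)), if_pos hi]

theorem gc_injective : Function.Injective gc := fun g h e => by
  apply co0_ext_e8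
  intro j
  have h1 := get_gc g (i := 23 - gE.enc j) (by omega)
  have h2 := get_gc h (i := 23 - gE.enc j) (by omega)
  have h3 : 23 - (23 - gE.enc j) = gE.enc j := by have := gE.enc_lt j; omega
  rw [h3, gE.dec_enc] at h1 h2
  exact Subtype.ext (enc_inj (bd_col g j) (bd_col h j) (by rw [← h1, ← h2, e]))

/-- product of codes -/
noncomputable def gmul (c d : ℕ) : ℕ :=
  force (mD c) fun D => force (mK D) fun K =>
    packC (nat_lit 148) (fun i => ap D K (get (nat_lit 148) d i)) (nat_lit 24)

theorem gmul_gc (g h : Co0) : gmul (gc g) (gc h) = gc (g * h) := by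
  unfold gmul
  simp only [force_eq, packC_eq]
  apply pack_congr
  intro i hi
  show ap _ _ (get 148 (gc h) i) = enc _
  rw [get_gc h hi, ap_gc g (by rw [norm_smul, e8_norm]; norm_num), mul_smul]

/-- the code of the identity -/
def gone : ℕ := 0x42108421084210842108421084211000000004210842108421084210842108422080000000421084210842108421084210844108000000042108421084210842108421088210800000004210842108421084210842110421080000000421084210842108421084220842108000000042108421084210842108441084210800000004210842108421084210882108421080000000421084210842108421104210842108000000042108421084210842208421084210800000004210842108421084410842108421080000000421084210842108821084210842108000000042108421084211042108421084210800000004210842108422084210842108421080000000421084210844108421084210842108000000042108421088210842108421084210800000004210842110421084210842108421080000000421084220842108421084210842108000000042108441084210842108421084210800000004210882108421084210842108421080000000421104210842108421084210842108000000042208421084210842108421084210800000004410842108421084210842108421080000000821084210842108421084210842108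

theorem enc_e8 (j : GolayPt) : enc (e8 j : V) = Z8 + 8 * 2 ^ (5 * gE.enc j) := by
  have h1 : Bd (e8 j : V) := bd_of_norm (by rw [e8_norm]; norm_num)
  have h2 : (Z8 : ℤ) = 8 * O5 := by decide +kernel
  have := enc_cast h1
  have h3 : EE (e8 j : V) = 8 * 2 ^ (5 * gE.enc j) := by
    unfold EE
    rw [Finset.sum_eq_single j] <;> simp +contextual [e8_apply]
  zify
  rw [this, h3, h2]; ring

theorem gc_one : gc 1 = gone := by
  have : gone = pack 148 (fun i => Z8 + 8 * 2 ^ (5 * (23 - i))) 24 := by
    rw [← packC_eq]; decide +kernel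
  rw [this]
  apply pack_congr
  intro i hi
  simp only [one_smul]
  rw [enc_e8, gE.enc_dec _ (by omega)]

/-- constant -/
def DR : ℕ := 0x8000000000000000000000000000000000000040000000000000000000000000000000000000200000000000000000000000000000000000001000000000000000000000000000000000000008000000000000000000000000000000000000040000000000000000000000000000000000000200000000000000000000000000000000000001000000000000000000000000000000000000008000000000000000000000000000000000000040000000000000000000000000000000000000200000000000000000000000000000000000001000000000000000000000000000000000000008000000000000000000000000000000000000040000000000000000000000000000000000000200000000000000000000000000000000000001000000000000000000000000000000000000008000000000000000000000000000000000000040000000000000000000000000000000000000200000000000000000000000000000000000001000000000000000000000000000000000000008000000000000000000000000000000000000040000000000000000000000000000000000000200000000000000000000000000000000000001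
/-- constant -/
def M148 : ℕ := 0xfffffffffffffffffffffffffffffffffffff
/-- constant -/
def N20 : ℕ := 0xffff800000000000000000000000000000000ffff800000000000000000000000000000000ffff800000000000000000000000000000000ffff800000000000000000000000000000000ffff800000000000000000000000000000000ffff800000000000000000000000000000000ffff800000000000000000000000000000000ffff800000000000000000000000000000000ffff800000000000000000000000000000000ffff800000000000000000000000000000000ffff800000000000000000000000000000000ffff800000000000000000000000000000000ffff800000000000000000000000000000000ffff800000000000000000000000000000000ffff800000000000000000000000000000000ffff800000000000000000000000000000000ffff800000000000000000000000000000000ffff800000000000000000000000000000000ffff800000000000000000000000000000000ffff800000000000000000000000000000000ffff800000000000000000000000000000000ffff800000000000000000000000000000000ffff800000000000000000000000000000000ffff8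

/-- the matrix of the inner product with a vector -/
def rD (b : ℕ) : ℕ := Nat.add (spr (Nat.land (mv DR b) M148)) N20
/-- its constant -/
def rK (D : ℕ) : ℕ := Nat.sub (nat_lit 1572864) (Nat.land (mv D Z8) (nat_lit 1048575))
/-- inner product plus `2 ^ 19` -/
def dt (D K n : ℕ) : ℕ := Nat.land (Nat.add (mv D n) K) (nat_lit 1048575)

theorem rD_eq {b : ℕ} (hb : b < 2 ^ 120) :
    rD b = pack 148 (fun i => (fun j => get 5 b j + (2 ^ 20 - 8)) (23 - i)) 24 := by
  have h1 : DR = pack 148 (fun i => (fun j => 2 ^ (5 * (23 - j))) (23 - i)) 24 := by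
    rw [← packC_eq]; decide +kernel
  have h2 : M148 = 2 ^ 148 - 1 := by decide +kernel
  have h3 : N20 = pack 148 (fun _ => 2 ^ 20 - 8) 24 := by rw [← packC_eq]; decide +kernel
  have h4 : Nat.land (mv DR b) M148 = pack 5 (fun i => get 5 b (23 - i)) 24 := by
    rw [h1, h2, land_ones, mv_eq hb (r := fun j => 2 ^ (5 * (23 - j)))
      (fun j _ => Nat.pow_le_pow_right (by norm_num) (by omega))]
    unfold pack
    rw [← Finset.sum_range_reflect]
    refine Finset.sum_congr rfl fun j hj => ?_
    have := Finset.mem_range.1 hj
    have e : 23 - (24 - 1 - j) = j := by omega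
    rw [e]
  have h5 : pack 5 (fun i => get 5 b (23 - i)) 24 < 2 ^ 120 :=
    pack_lt (w := 5) (n := 24) fun i _ => get_lt _ _ _
  unfold rD
  rw [h4, spr_eq h5, h3, Nat.add_eq, pack_add]
  apply pack_congr
  intro i hi
  rw [get_pack (fun i _ => get_lt _ _ _), if_pos hi]

theorem dt_eq {a b : ℕ} (ha : a < 2 ^ 120) (hb : b < 2 ^ 120) :
    (dt (rD b) (rK (rD b)) a : ℤ) = dotInt (dec a) (dec b) + 524288 := by
  have bnd : |dotInt (dec a) (dec b)| ≤ 24 * 529 := by
    rw [dotInt_def]
    refine (Finset.abs_sum_le_sum_abs _ _).trans ?_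
    have := Finset.sum_le_card_nsmul univ (fun p => |dec a p * dec b p|) 529 fun p _ => by
      have h1 := bd_dec a p
      have h2 := bd_dec b p
      rw [abs_le]; constructor <;> nlinarith
    simpa [card_pt] using this
  rw [abs_le] at bnd
  have h6 := affine_eq ha (r := fun j => get 5 b j + (2 ^ 20 - 8)) (fun j hj => by
      have := get_lt 5 b j; omega) 20 (by norm_num) (dec b) (fun p => by
      rw [Nat.cast_add, get_eq_dec, Int.modEq_iff_dvd]
      exact ⟨-1, by push_cast; ring⟩) 524288 (dotInt (dec a) (dec b) + 524288).toNat (by omega) (by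
      rw [Int.toNat_of_nonneg (by omega), dotInt_def]; push_cast; ring)
  rw [← rD_eq hb] at h6
  have h7 : dt (rD b) (rK (rD b)) a = (dotInt (dec a) (dec b) + 524288).toNat := by
    rw [← h6]
    unfold dt rK
    rw [show (nat_lit 1048575) = 2 ^ 20 - 1 from rfl, land_ones, land_ones]
    rfl
  rw [h7]; omega

theorem dt_enc {x y : V} (hx : Bd x) (hy : Bd y) :
    (dt (rD (enc y)) (rK (rD (enc y))) (enc x) : ℤ) = dotInt x y + 524288 := by
  rw [dt_eq (enc_lt hx) (enc_lt hy), dec_enc hx, dec_enc hy]

/-- norm plus `2 ^ 19` -/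
noncomputable def nm (n : ℕ) : ℕ := force (rD n) fun D => dt D (rK D) n

theorem nm_eq {n : ℕ} (h : n < 2 ^ 120) : (nm n : ℤ) = sqNorm (dec n) + 524288 := by
  unfold nm
  rw [force_eq, dt_eq h h, dot_self]

/-- constant -/
def DI : ℕ := 0x40100000000000000000000000000000001000010000000000000000000000000000040000001000000000000000000000000001000000000100000000000000000000000040000000000010000000000000000000001000000000000001000000000000000000040000000000000000100000000000000001000000000000000000010000000000000040000000000000000000001000000000001000000000000000000000000100000000040000000000000000000000000010000001000000000000000000000000000001000000000400000010000000401004010040100000010000000400000010040100401000010000000004010000100401000000000100401000000100400004010040000000004010000100000010040100400000000040000001004010000001000010000100001004010000000401000000000000004010040100001004000040100000000000100401004000040100001000010000000004010040100001004000040000001000000100401004000040100001000000000100000010000100000004000000100401004010000001004000000000401004000040000405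
/-- constant -/
def MI : ℕ := 0x300c0300c0300c0300c0300c0300c07

/-- zero if `n` is the code of a lattice vector -/
noncomputable def errL (n : ℕ) : ℕ :=
  Nat.add (Nat.add (Nat.land (mv DI n) MI) (Nat.shiftRight n (nat_lit 120)))
    (Nat.mul (Nat.land n O5) (Nat.xor (Nat.land n O5) O5))

/-- the basis of the code -/
def basisSet : Set (GolayPt → ZMod 2) := {w | ∃ k < 12, w = ind (um (get 24 TA k))}

theorem cw_iff_CW (c : Finset GolayPt) : Cw c ↔ c ∈ Golay.CW := (mem_supports_iff c).symm

theorem basisSet_mem : ∀ w ∈ basisSet, w ∈ golayCode := by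
  rintro _ ⟨k, hk, rfl⟩
  exact (cw_iff_CW _).2 (Golay.um_TA_mem k hk)

theorem basisSet_span : golayCode ≤ Submodule.span (ZMod 2) basisSet := by
  intro w hw
  obtain ⟨j, -, e⟩ := Golay.enum_CW.mem _ ((cw_iff_CW _).1 (cw_supp.2 hw))
  rw [← ind_supp w, Golay.eq_um_of_mk_eq e]
  refine Golay.xorComb_induction (fun m => ind (um m) ∈ Submodule.span (ZMod 2) basisSet) ?_ ?_ ?_ j
  · rw [Golay.um_zero, ind_empty]; exact Submodule.zero_mem _
  · intro a b ha hb
    rw [Golay.um_xor, ind_symmDiff]; exact Submodule.add_mem _ ha hb
  · intro k hk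
    exact Submodule.subset_span ⟨k, hk, rfl⟩

theorem lt_of_shift {n b : ℕ} (h : Nat.shiftRight n b = 0) : n < 2 ^ b := by
  have : n >>> b = 0 := h
  rw [Nat.shiftRight_eq_div_pow] at this
  exact (Nat.div_eq_zero_iff_lt (by positivity)).1 this

theorem errL_lt {n : ℕ} (h : errL n = 0) : n < 2 ^ 120 :=
  lt_of_shift (add_eq_zero_iff'.1 (add_eq_zero_iff'.1 h).1).2

theorem twoInd_um (m : ℕ) (p : GolayPt) :
    twoInd (ind (um m)) p = 2 * (get 1 m (gE.enc p) : ℤ) := by
  unfold twoInd
  rw [ind_apply, Golay.get_one]
  by_cases h : m.testBit (gE.enc p) = true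
  · rw [if_pos ((Golay.mem_um _ _).2 h), if_pos h]; rfl
  · rw [if_neg (fun h' => h ((Golay.mem_um _ _).1 h')), if_neg h]; rfl

theorem mem_of_errL {n : ℕ} (h : errL n = 0) : dec n ∈ leechLattice := by
  have hn := errL_lt h
  have h1 : Nat.land (mv DI n) MI = 0 := (add_eq_zero_iff'.1 (add_eq_zero_iff'.1 h).1).1
  have h2 : Nat.mul (Nat.land n O5) (Nat.xor (Nat.land n O5) O5) = 0 := (add_eq_zero_iff'.1 h).2
  let a : ℕ → ℕ → ℕ := fun k j =>
    if k = 0 then (if j = 23 then 5 else 1) else get 1 (get 24 TA (k - 1)) j
  have ha : ∀ k j, a k j ≤ if j = 23 then 5 else 1 := by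
    intro k j
    have := get_lt 1 (get 24 TA (k - 1)) j
    simp only [a]
    split_ifs <;> omega
  have e1 : DI = pack 148 (fun i => (fun j => pack 10 (fun k => a k j) 13) (23 - i)) 24 := by
    simp only [← packC_eq]; decide +kernel
  have e2 : MI = pack 10 (fun k => if k = 0 then 7 else 3) 13 := by
    simp only [← packC_eq]; decide +kernel
  have e3 : mv DI n % 2 ^ 148 = pack 10 (fun k => ∑ j ∈ range 24, get 5 n j * a k j) 13 := by
    rw [e1, mv_eq hn (r := fun j => pack 10 (fun k => a k j) 13) (fun j _ => le_trans (pack_lt (w := 10) (n := 13) fun k _ => by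
      have := ha k j; split_ifs at this <;> omega).le (by norm_num))]
    simp only [pack, Finset.mul_sum, Finset.sum_mul]
    rw [Finset.sum_comm]
    exact Finset.sum_congr rfl fun k _ => Finset.sum_congr rfl fun j _ => by ring
  have bd : ∀ k, ∑ j ∈ range 24, get 5 n j * a k j < 2 ^ 10 := by
    intro k
    have : ∑ j ∈ range 24, get 5 n j * a k j ≤ ∑ j ∈ range 24, 31 * if j = 23 then 5 else 1 :=
      Finset.sum_le_sum fun j _ => Nat.mul_le_mul (Nat.le_of_lt_succ (get_lt 5 n j)) (ha k j)
    exact lt_of_le_of_lt this (by decide +kernel)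
  have e4 : (mv DI n % 2 ^ 148) &&& MI = 0 := by
    have : MI % 2 ^ 148 = MI := by decide +kernel
    rw [← this, ← Nat.and_mod_two_pow]
    have h1' : mv DI n &&& MI = 0 := h1
    rw [h1']
  rw [e3, e2, land_pack (by norm_num) (fun k _ => bd k) (fun k _ => by split_ifs <;> norm_num),
    pack_eq_zero] at e4
  have par : ∀ p, dec n p % 2 = dec n none % 2 := by
    have e5 : O5 = pack 5 (fun _ => 1) 24 := by rw [← packC_eq]; decide +kernel
    have e6 : ∀ k < 24, get 5 (Nat.land n O5) k = get 5 n k % 2 := by
      intro k hk
      show get 5 (n &&& O5) k = _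
      rw [get_land, e5, get_pack (fun _ _ => by norm_num), if_pos hk, Nat.and_one_is_mod]
    intro p
    have g1 := e6 _ (gE.enc_lt p)
    have g2 := e6 _ (gE.enc_lt none)
    have g3 := get_eq_dec n p
    have g4 := get_eq_dec n none
    rcases Golay.mul_eq_zero_iff'.1 h2 with h3 | h3
    · rw [h3] at g1 g2
      simp only [get_eq, Nat.zero_div, Nat.zero_mod] at g1 g2
      simp only [get_eq] at g3 g4
      omega
    · rw [xor_eq_zero' h3, e5, get_pack (fun _ _ => by norm_num), if_pos (gE.enc_lt _)] at g1 g2
      omega
  refine mem_leech_of_dot basisSet basisSet_span basisSet_mem _ ?_ ?_ ?_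
  · have := e4 0 (by norm_num)
    rw [if_pos rfl, show 7 = 2 ^ 3 - 1 from rfl, Nat.and_two_pow_sub_one_eq_mod, gE.sum_range] at this
    have h3 : (8 : ℤ) ∣ ((∑ p : GolayPt, get 5 n (gE.enc p) * a 0 (gE.enc p) : ℕ) : ℤ) := by
      exact_mod_cast Nat.dvd_of_mod_eq_zero this
    have h4 : (8 : ℤ) ∣ ((∑ p : GolayPt, get 5 n (gE.enc p) * a 0 (gE.enc p) : ℕ) : ℤ) -
        dotInt (dec n) (oddVec none) := by
      rw [dotInt_def]
      push_cast
      rw [← Finset.sum_sub_distrib]
      apply Finset.dvd_sum
      intro p _
      rw [get_eq_dec]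
      have : (8 : ℤ) ∣ (a 0 (gE.enc p) : ℤ) - oddVec none p := by
        revert p; decide
      obtain ⟨t, ht⟩ := this
      exact ⟨dec n p * t + a 0 (gE.enc p), by linear_combination dec n p * ht⟩
    omega
  · rintro _ ⟨k, hk, rfl⟩
    have := e4 (k + 1) (by omega)
    rw [if_neg (by omega), show 3 = 2 ^ 2 - 1 from rfl, Nat.and_two_pow_sub_one_eq_mod,
      gE.sum_range] at this
    have h3 : (4 : ℤ) ∣ ((∑ p : GolayPt, get 5 n (gE.enc p) * a (k + 1) (gE.enc p) : ℕ) : ℤ) := by
      exact_mod_cast Nat.dvd_of_mod_eq_zero this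
    have h4 : (8 : ℤ) ∣ 2 * ((∑ p : GolayPt, get 5 n (gE.enc p) * a (k + 1) (gE.enc p) : ℕ) : ℤ) -
        dotInt (dec n) (twoInd (ind (um (get 24 TA k)))) := by
      rw [dotInt_def]
      push_cast
      rw [Finset.mul_sum, ← Finset.sum_sub_distrib]
      apply Finset.dvd_sum
      intro p _
      rw [get_eq_dec, twoInd_um]
      have : a (k + 1) (gE.enc p) = get 1 (get 24 TA k) (gE.enc p) := by simp [a]
      rw [this]
      exact ⟨2 * (get 1 (get 24 TA k) (gE.enc p) : ℤ), by ring⟩
    omega
  · intro i
    rw [fourVec, dot_add_right, dot_single_right, dot_single_right]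
    have := par i
    omega

/-- the lattice vector with a given code -/
def decL (n : ℕ) (h : errL n = 0) : leechLattice := ⟨dec n, mem_of_errL h⟩

theorem enc_decL (n : ℕ) (h : errL n = 0) : enc (decL n h : V) = n := enc_dec (errL_lt h)

/-- codes of the generators of the lattice -/
def GEN : ℕ := 0x8210842108421084210842108421086310842108421084210842108421086218842108421084210842108421086210c4210842108421084210842108621086210842108421084210842108621084310842108421084210842108621084218842108421084210842108621084210c4210842108421084210862108421086210842108421084210862108421084310842108421084210862108421084218842108421084210862108421084210c4210842108421086210842108421086210842108421086210842108421084310842108421086210842108421084218842108421086210842108421084210c4210842108621084210842108421086210842108621084210842108421084310842108621084210842108421084218842108621084210842108421084210c4210862108421084210842108421086210862108421084210842108421084310862108421084210842108421084218862108421084210842108421084210c529484214a521485210842108421085214a4210a5290a4290842108421084294a5214a429084214842108421084214a5290a521484210a42108421084210a529485290a4210852108421085294852908529084210842908421085214a42948429484210842148421085210a5214a4214a421084210a4210842948529484214a4210842108521085290a429085214a421084210842908429085210a5294a421084210842148529084294a4290a42108421084210a2a5294a5294a5294a5294a5294a529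
/-- constant -/
def LM : ℕ := 0xffffffffffffffffffffffffffffff0000000ffffffffffffffffffffffffffffff0000000ffffffffffffffffffffffffffffff0000000ffffffffffffffffffffffffffffff0000000ffffffffffffffffffffffffffffff0000000ffffffffffffffffffffffffffffff0000000ffffffffffffffffffffffffffffff0000000ffffffffffffffffffffffffffffff0000000ffffffffffffffffffffffffffffff0000000ffffffffffffffffffffffffffffff0000000ffffffffffffffffffffffffffffff0000000ffffffffffffffffffffffffffffff0000000ffffffffffffffffffffffffffffff0000000ffffffffffffffffffffffffffffff0000000ffffffffffffffffffffffffffffff0000000ffffffffffffffffffffffffffffff0000000ffffffffffffffffffffffffffffff0000000ffffffffffffffffffffffffffffff0000000ffffffffffffffffffffffffffffff0000000ffffffffffffffffffffffffffffff0000000ffffffffffffffffffffffffffffff0000000ffffffffffffffffffffffffffffff0000000ffffffffffffffffffffffffffffff0000000ffffffffffffffffffffffffffffff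

/-- zero if `c` is the code of an element of `Co0` -/
noncomputable def errM (c : ℕ) : ℕ :=
  force (mD c) fun D => force (mK D) fun K =>
  force (packC (nat_lit 120) (fun k => ap D K (get (nat_lit 120) GEN k)) (nat_lit 37)) fun Y =>
  Nat.add (Nat.add (Nat.xor c (Nat.land c LM)) (sumTo (fun k => errL (get (nat_lit 120) Y k)) (nat_lit 37)))
    (sumTo (fun j => force (rD (get (nat_lit 148) c (Nat.sub (nat_lit 23) j))) fun Dj =>
      force (rK Dj) fun Kj =>
      Nat.add (sumTo (fun k => Nat.xor (dt Dj Kj (get (nat_lit 148) c (Nat.sub (nat_lit 23) k)))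
          (Nat.add (nat_lit 524288) (Nat.mul (nat_lit 64) (Golay.isZ (Nat.xor j k))))) (nat_lit 24))
        (sumTo (fun k => Nat.xor (dt Dj Kj (get (nat_lit 120) Y k))
          (Nat.add (nat_lit 524224) (Nat.mul (nat_lit 8)
            (get (nat_lit 5) (get (nat_lit 120) GEN k) j)))) (nat_lit 37))) (nat_lit 24))

theorem orth_transpose (M : GolayPt → GolayPt → ℤ)
    (h : ∀ j k, ∑ i, M i j * M i k = if j = k then 64 else 0) (i k : GolayPt) :
    ∑ j, M i j * M k j = if i = k then 64 else 0 := by
  let A : Matrix GolayPt GolayPt ℚ := Matrix.of fun i j => (M i j : ℚ) / 8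
  have h1 : A.transpose * A = 1 := by
    ext j k
    have := congrArg (Int.cast : ℤ → ℚ) (h j k)
    push_cast at this
    simp only [Matrix.mul_apply, Matrix.transpose_apply, A, Matrix.one_apply, Matrix.of_apply]
    have e : ∀ i, (M i j : ℚ) / 8 * (M i k / 8) = M i j * M i k / 64 := fun i => by ring
    simp only [e, ← Finset.sum_div, this]
    split_ifs <;> norm_num
  have h1' : A * A.transpose = 1 := mul_eq_one_comm.1 h1
  have h2 : (A * A.transpose) i k = (1 : Matrix GolayPt GolayPt ℚ) i k := by rw [h1']
  simp only [Matrix.mul_apply, Matrix.transpose_apply, A, Matrix.one_apply, Matrix.of_apply] at h2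
  have e : ∀ j, (M i j : ℚ) / 8 * (M k j / 8) = M i j * M k j / 64 := fun i => by ring
  simp only [e, ← Finset.sum_div] at h2
  have h3 : ((∑ j, M i j * M k j : ℤ) : ℚ) = ((if i = k then 64 else 0 : ℤ) : ℚ) := by
    push_cast
    split_ifs at h2 ⊢ <;> linarith
  exact_mod_cast h3

theorem exists_of_errM {c : ℕ} (h : errM c = 0) : ∃ g : Co0, gc g = c := by
  unfold errM at h
  simp only [force_eq] at h
  generalize packC (nat_lit 120) (fun k => ap (mD c) (mK (mD c)) (get (nat_lit 120) GEN k))
    (nat_lit 37) = Y at h
  obtain ⟨h1, h3⟩ := add_eq_zero_iff'.1 h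
  obtain ⟨h1, h2⟩ := add_eq_zero_iff'.1 h1
  have e1 : LM = pack 148 (fun _ => 2 ^ 120 - 1) 24 := by rw [← packC_eq]; decide +kernel
  have hc : c = c &&& LM := xor_eq_zero' h1
  have hc1 : ∀ k < 24, get 148 c k < 2 ^ 120 := by
    intro k hk
    rw [hc, get_land, e1, get_pack (fun _ _ => by norm_num), if_pos hk,
      Nat.and_two_pow_sub_one_eq_mod]
    exact Nat.mod_lt _ (by norm_num)
  have hc2 : c < 2 ^ (148 * 24) := by
    rw [hc]
    exact lt_of_le_of_lt Nat.and_le_right (by decide +kernel)
  let r : ℕ → ℕ := fun j => get 148 c (23 - j)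
  have hr : ∀ j, r j < 2 ^ 120 := fun j => hc1 _ (by omega)
  let M : GolayPt → GolayPt → ℤ := fun i j => dec (r (gE.enc j)) i
  have orth : ∀ j k, ∑ i, M i j * M i k = if j = k then 64 else 0 := by
    intro j k
    have g1 := xor_eq_zero' (sumTo_eq_zero (add_eq_zero_iff'.1
      (sumTo_eq_zero h3 _ (gE.enc_lt j))).1 _ (gE.enc_lt k))
    have g2 := dt_eq (hr (gE.enc k)) (hr (gE.enc j))
    have g3 : dt (rD (r (gE.enc j))) (rK (rD (r (gE.enc j)))) (r (gE.enc k)) =
      524288 + 64 * Golay.isZ (Nat.xor (gE.enc j) (gE.enc k)) := g1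
    rw [g3, dot_comm, dotInt_def, Golay.isZ_eq] at g2
    simp only [Golay.xor_eq_zero_iff', gE.enc_injective.eq_iff] at g2
    simp only [M]
    split_ifs at g2 ⊢ <;> omega
  have key : ∀ k < 37, ∃ y ∈ leechLattice, ∀ i, ∑ j, M i j * dec (get 120 GEN k) j = 8 * y i := by
    intro k hk
    have g0 := sumTo_eq_zero h2 k hk
    refine ⟨_, mem_of_errL g0, fun i => ?_⟩
    have g4 : ∀ j, ∑ l, M l j * dec (get 120 Y k) l = 8 * dec (get 120 GEN k) j := by
      intro j
      have g1 := xor_eq_zero' (sumTo_eq_zero (add_eq_zero_iff'.1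
        (sumTo_eq_zero h3 _ (gE.enc_lt j))).2 k hk)
      have g2 := dt_eq (get_lt 120 Y k) (hr (gE.enc j))
      have g3 : dt (rD (r (gE.enc j))) (rK (rD (r (gE.enc j)))) (get 120 Y k) =
        524224 + 8 * get 5 (get 120 GEN k) (gE.enc j) := g1
      rw [g3, dot_comm, dotInt_def] at g2
      push_cast at g2
      rw [get_eq_dec] at g2
      simp only [M]
      linarith
    have g5 : ∑ j, M i j * (8 * dec (get 120 GEN k) j) = 64 * dec (get 120 Y k) i := by
      simp only [← g4, Finset.mul_sum]
      rw [Finset.sum_comm]
      simp only [← mul_assoc, ← Finset.sum_mul, orth_transpose M orth]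
      simp
    have g6 : ∑ j, M i j * (8 * dec (get 120 GEN k) j) = 8 * ∑ j, M i j * dec (get 120 GEN k) j := by
      rw [Finset.mul_sum]; exact Finset.sum_congr rfl fun j _ => by ring
    show _ = 8 * dec (get 120 Y k) i
    exact mul_left_cancel₀ (by norm_num : (8 : ℤ) ≠ 0) (by rw [← g6, g5]; ring)
  have hM : IsCoMat M := by
    refine isCoMat_of_gens M basisSet basisSet_span basisSet_mem orth ?_ ?_ ?_
    · have : ∀ j < 24, (get 5 (get 120 GEN 0) j) = if j = 23 then 5 else 9 := by decide +kernel
      have e : oddVec none = dec (get 120 GEN 0) := by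
        funext p
        have e23 : gE.enc p = 23 ↔ p = none := gE.enc_injective.eq_iff (b := none)
        rw [dec, this _ (gE.enc_lt p)]
        simp only [e23, oddVec]
        split_ifs <;> rfl
      rw [e]; exact key 0 (by norm_num)
    · rintro _ ⟨k, hk, rfl⟩
      have : ∀ k < 12, ∀ j < 24, (get 5 (get 120 GEN (k + 1)) j) = 8 + 2 * get 1 (get 24 TA k) j := by
        decide +kernel
      have e : twoInd (ind (um (get 24 TA k))) = dec (get 120 GEN (k + 1)) := by
        funext p
        rw [twoInd_um, dec, this k hk _ (gE.enc_lt p)]; push_cast; ring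
      rw [e]; exact key _ (by omega)
    · intro k
      have : ∀ k < 24, ∀ j < 24, (get 5 (get 120 GEN (k + 13)) j) =
          8 + (if j = 23 then 4 else 0) + (if j = k then 4 else 0) := by
        decide +kernel
      have e : fourVec none k = dec (get 120 GEN (gE.enc k + 13)) := by
        funext p
        have e23 : gE.enc p = 23 ↔ p = none := gE.enc_injective.eq_iff (b := none)
        rw [dec, this _ (gE.enc_lt k) _ (gE.enc_lt p)]
        simp only [e23, gE.enc_injective.eq_iff, fourVec, Pi.add_apply, Pi.single_apply]
        split_ifs <;> rfl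
      rw [e]; exact key _ (by have := gE.enc_lt k; omega)
  refine ⟨ofMat M hM, ?_⟩
  refine Eq.trans ?_ (pack_get (w := 148) (n := 24) (by norm_num) hc2)
  apply pack_congr
  intro i hi
  have : ((ofMat M hM • e8 (gE.dec (23 - i)) : leechLattice) : V) = dec (get 148 c i) := by
    funext p
    have g1 := ofMat_apply M hM (e8 (gE.dec (23 - i))) p
    rw [Finset.sum_eq_single (gE.dec (23 - i))] at g1
    · simp only [e8_apply, if_true, M, r, gE.enc_dec (23 - i) (by omega)] at g1
      rw [show 23 - (23 - i) = i by omega] at g1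
      exact mul_left_cancel₀ (by norm_num : (8 : ℤ) ≠ 0) (g1.trans (mul_comm _ _))
    · intro b _ hb; simp [e8_apply, hb]
    · simp
  show enc _ = _
  rw [this, enc_dec (hc1 i hi)]

open Classical in
/-- the element of `Co0` with a given code -/
noncomputable def tg (c : ℕ) : Co0 := if h : ∃ g : Co0, gc g = c then h.choose else 1

theorem gc_tg {c : ℕ} (h : errM c = 0) : gc (tg c) = c := by
  have h1 := exists_of_errM h
  unfold tg
  rw [dif_pos h1]
  exact h1.choose_spec

theorem tg_gc (g : Co0) : tg (gc g) = g := by
  have h1 : ∃ g' : Co0, gc g' = gc g := ⟨g, rfl⟩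
  unfold tg
  rw [dif_pos h1]
  exact gc_injective h1.choose_spec

/-- one application, from the code of the group element -/
def ap1 (c n : ℕ) : ℕ := ap (mD c) (mK (mD c)) n

theorem ap1_gc (g : Co0) {x : leechLattice} (h : sqNorm (x : V) ≤ 80) :
    ap1 (gc g) (enc x) = enc ((g • x : leechLattice) : V) := ap_gc g h

theorem smul_eq_of_ap1 {g : Co0} {c : ℕ} (hg : gc g = c) {x y : leechLattice} (hx : sqNorm (x : V) ≤ 80)
    (hy : Bd (y : V)) (e : ap1 c (enc x) = enc y) : g • x = y := by
  rw [← hg, ap1_gc g hx] at e
  exact Subtype.ext (enc_inj (bd_smul g hx) hy e)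

theorem mat_eq_dec (g : Co0) (i j : GolayPt) : mat g i j = dec (get 148 (gc g) (23 - gE.enc j)) i := by
  have := gE.enc_lt j
  rw [get_gc g (by omega), show 23 - (23 - gE.enc j) = gE.enc j by omega, gE.dec_enc,
    dec_enc (bd_col g j)]
  rfl

end Cfsg.Agent.Leech
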