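import Cfsg.Agent.Leech.Census
import Cfsg.Agent.Leech.Gens

/-! Orbits inside the set of 552 minimal vectors. -/

set_option autoImplicit false

namespace Cfsg.Agent.Leech
open Cfsg MulAction
open Cfsg.Agent.Golay (bfs mapL)

theorem vv_mem : vv ∈ C1 uu 24 := ⟨norm_vv, by decide +kernel⟩
theorem xx_mem : xx ∈ C2 uu 24 vv 16 := ⟨⟨norm_xx, by decide +kernel⟩, by decide +kernel⟩
theorem vv_mem' : vv ∈ C2 uu 24 ww (-24) := ⟨vv_mem, by decide +kernel⟩

theorem b552a : bfs vact (mapL prep co3C) 0x62108421084210842108421084210c 600 (finH 0x62108421084210842108421084210c) = 0x100000000000000000000000000000000000000000000000000000010000000113001130000000228 := by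
  decide +kernel
theorem b552b : bfs vact (mapL prep co3C) 0x62108421084210842108421084210c 600 (finH 0x39ce739ce739ce739ce739ce739ce3) = 0x6400160000640000000000000000000000000000000000000000000000000000000000000000000228 := by
  decide +kernel

theorem o552a : (∀ y ∈ C1 uu 24, ∃ g ∈ stabilizer Co0 uu, g • vv = y) ∧
    ∀ (c : ℤ) (j : ℕ), (8 ∣ c ∧ -48 ≤ c ∧ c ≤ 48 ∧ c / 8 % 16 = j) → (C2 uu 24 vv c).ncard =
      0x100000000000000000000000000000000000000000000000000000010000000113001130000000228 / 2 ^ 20 / (2 ^ 20) ^ j % 2 ^ 20 :=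
  orbit_census in_co3 cd_vv (fun _ h => h.1) (ncard_552 norm_uu) (C1.stab vv_mem)
    (norm_vv.le.trans (by norm_num)) cd_vv _ b552a (by decide +kernel)

theorem o552b : ∀ (c : ℤ) (j : ℕ), (8 ∣ c ∧ -48 ≤ c ∧ c ≤ 48 ∧ c / 8 % 16 = j) →
    (C2 uu 24 ww c).ncard = 0x6400160000640000000000000000000000000000000000000000000000000000000000000000000228 / 2 ^ 20 / (2 ^ 20) ^ j % 2 ^ 20 :=
  (orbit_census in_co3 cd_vv (fun _ h => h.1) (ncard_552 norm_uu) (C1.stab vv_mem)
    norm_ww.le cd_ww _ b552b (by decide +kernel)).2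

theorem tr552 : ∀ y ∈ C1 uu 24, ∃ g ∈ stabilizer Co0 uu, g • vv = y := o552a.1
theorem n275 : (C2 uu 24 vv 16).ncard = 275 := (o552a.2 16 2 (by decide)).trans (by decide +kernel)
theorem n275' : (C2 uu 24 vv 8).ncard = 275 := (o552a.2 8 1 (by decide)).trans (by decide +kernel)
theorem n100 : (C2 uu 24 ww (-24)).ncard = 100 := (o552b _ 13 (by decide)).trans (by decide +kernel)
theorem n352 : (C2 uu 24 ww (-16)).ncard = 352 := (o552b _ 14 (by decide)).trans (by decide +kernel)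

theorem b275 : bfs vact (mapL prep mclC) 0x621084210842108421084210842188 300 (finH 0x621084210842108421084210842188) = 0x100000000a2000700000000113 := by
  decide +kernel

theorem o275 : (∀ y ∈ C2 uu 24 vv 16, ∃ g ∈ stabilizer Co0 uu ⊓ stabilizer Co0 vv, g • xx = y) ∧
    ∀ (c : ℤ) (j : ℕ), (8 ∣ c ∧ -48 ≤ c ∧ c ≤ 48 ∧ c / 8 % 16 = j) → (C3 uu 24 vv 16 xx c).ncard =
      0x100000000a2000700000000113 / 2 ^ 20 / (2 ^ 20) ^ j % 2 ^ 20 :=
  orbit_census in_mcl cd_xx (fun _ h => h.1.1) n275 (C2.stab xx_mem)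
    (norm_xx.le.trans (by norm_num)) cd_xx _ b275 (by decide +kernel)

theorem tr275 : ∀ y ∈ C2 uu 24 vv 16, ∃ g ∈ stabilizer Co0 uu ⊓ stabilizer Co0 vv, g • xx = y := o275.1
theorem n112 : (C3 uu 24 vv 16 xx 8).ncard = 112 := (o275.2 8 1 (by decide)).trans (by decide +kernel)
theorem n162 : (C3 uu 24 vv 16 xx 16).ncard = 162 := (o275.2 16 2 (by decide)).trans (by decide +kernel)

/-- a base point -/
def y112 : leechLattice := decL 0x529084294a4290a42108421084210a (by decide +kernel)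
/-- a base point -/
def y162 : leechLattice := decL 0x621084210842108421084210843108 (by decide +kernel)

theorem y112_mem : y112 ∈ C3 uu 24 vv 16 xx 8 :=
  ⟨⟨⟨by decide +kernel, by decide +kernel⟩, by decide +kernel⟩, by decide +kernel⟩
theorem y162_mem : y162 ∈ C3 uu 24 vv 16 xx 16 :=
  ⟨⟨⟨by decide +kernel, by decide +kernel⟩, by decide +kernel⟩, by decide +kernel⟩

theorem orbit_trans {H : Subgroup Co0} {cs : List ℕ} (hin : Golay.In gc H cs) {x0 : leechLattice} {c0 : ℕ}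
    (hc0 : cd x0 = c0) {S : Set leechLattice} (hS : ∀ x ∈ S, sqNorm (x : V) = 32) {N : ℕ}
    (hcard : S.ncard = N) (hsub : ∀ g ∈ H, g • x0 ∈ S) (hN : N ≠ 0)
    (h : bfs vact (mapL prep cs) c0 (N + 1) (fun L _ => Golay.lenL L) = N) :
    ∀ y ∈ S, ∃ g ∈ H, g • x0 = y :=
  isCAct.transitive le_top hin (by
    have := hS _ (hsub 1 H.one_mem)
    rw [one_smul] at this
    exact this.le.trans (by norm_num)) hc0 _ hN h ((finite_norm_sub 32).subset hS) hcard hsub

theorem tr112 : ∀ y ∈ C3 uu 24 vv 16 xx 8,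
    ∃ g ∈ stabilizer Co0 uu ⊓ stabilizer Co0 vv ⊓ stabilizer Co0 xx, g • y112 = y :=
  orbit_trans in_u43 (enc_decL _ _) (fun _ h => h.1.1.1) n112 (C3.stab y112_mem) (by norm_num)
    (by decide +kernel)

theorem tr162 : ∀ y ∈ C3 uu 24 vv 16 xx 16,
    ∃ g ∈ stabilizer Co0 uu ⊓ stabilizer Co0 vv ⊓ stabilizer Co0 xx, g • y162 = y :=
  orbit_trans in_u43 (enc_decL _ _) (fun _ h => h.1.1.1) n162 (C3.stab y162_mem) (by norm_num)
    (by decide +kernel)

theorem b100 : bfs vact (mapL prep hsC) 0x62108421084210842108421084210c 300 (finH 0x62108421084210842108421084210c) = 0x1000000004d000160000000064 := by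
  decide +kernel

theorem o100 : (∀ y ∈ C2 uu 24 ww (-24), ∃ g ∈ stabilizer Co0 uu ⊓ stabilizer Co0 ww, g • vv = y) ∧
    ∀ (c : ℤ) (j : ℕ), (8 ∣ c ∧ -48 ≤ c ∧ c ≤ 48 ∧ c / 8 % 16 = j) → (C3 uu 24 ww (-24) vv c).ncard =
      0x1000000004d000160000000064 / 2 ^ 20 / (2 ^ 20) ^ j % 2 ^ 20 :=
  orbit_census in_hs cd_vv (fun _ h => h.1.1) n100 (C2.stab vv_mem')
    (norm_vv.le.trans (by norm_num)) cd_vv _ b100 (by decide +kernel)

theorem tr100 : ∀ y ∈ C2 uu 24 ww (-24), ∃ g ∈ stabilizer Co0 uu ⊓ stabilizer Co0 ww, g • vv = y :=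
  o100.1
theorem n22 : (C3 uu 24 ww (-24) vv 8).ncard = 22 := (o100.2 8 1 (by decide)).trans (by decide +kernel)
theorem n77 : (C3 uu 24 ww (-24) vv 16).ncard = 77 := (o100.2 16 2 (by decide)).trans (by decide +kernel)

/-- a base point -/
def y22 : leechLattice := decL 0x4a5294a5294a5294a5294a5294a4a9 (by decide +kernel)
/-- a base point -/
def y77 : leechLattice := decL 0x529084294a4290a42108421084210a (by decide +kernel)
/-- a base point -/
def y352 : leechLattice := decL 0x5290a429085214a421084210842908 (by decide +kernel)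

theorem y22_mem : y22 ∈ C3 uu 24 ww (-24) vv 8 :=
  ⟨⟨⟨by decide +kernel, by decide +kernel⟩, by decide +kernel⟩, by decide +kernel⟩
theorem y77_mem : y77 ∈ C3 uu 24 ww (-24) vv 16 :=
  ⟨⟨⟨by decide +kernel, by decide +kernel⟩, by decide +kernel⟩, by decide +kernel⟩
theorem y352_mem : y352 ∈ C2 uu 24 ww (-16) :=
  ⟨⟨by decide +kernel, by decide +kernel⟩, by decide +kernel⟩

theorem tr22 : ∀ y ∈ C3 uu 24 ww (-24) vv 8,
    ∃ g ∈ stabilizer Co0 uu ⊓ stabilizer Co0 ww ⊓ stabilizer Co0 vv, g • y22 = y :=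
  orbit_trans in_m22 (enc_decL _ _) (fun _ h => h.1.1.1) n22 (C3.stab y22_mem) (by norm_num)
    (by decide +kernel)

theorem tr77 : ∀ y ∈ C3 uu 24 ww (-24) vv 16,
    ∃ g ∈ stabilizer Co0 uu ⊓ stabilizer Co0 ww ⊓ stabilizer Co0 vv, g • y77 = y :=
  orbit_trans in_m22 (enc_decL _ _) (fun _ h => h.1.1.1) n77 (C3.stab y77_mem) (by norm_num)
    (by decide +kernel)

theorem tr352 : ∀ y ∈ C2 uu 24 ww (-16), ∃ g ∈ stabilizer Co0 uu ⊓ stabilizer Co0 ww, g • y352 = y :=
  orbit_trans in_hs (enc_decL _ _) (fun _ h => h.1.1) n352 (C2.stab y352_mem) (by norm_num)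
    (by decide +kernel)

theorem card_mcl : Nat.card ↥(stabilizer Co0 uu ⊓ stabilizer Co0 vv) = 898128000 :=
  card_inf_stab (C1.stab vv_mem) tr552 (card_stab48 _ norm_uu) (ncard_552 norm_uu) (by norm_num)
    (by norm_num)

theorem card_u43 : Nat.card ↥(stabilizer Co0 uu ⊓ stabilizer Co0 vv ⊓ stabilizer Co0 xx) = 3265920 :=
  card_inf_stab (C2.stab xx_mem) tr275 card_mcl n275 (by norm_num) (by norm_num)

/-- all pairs of a vector of norm 48 and a minimal vector with product 24 are equivalent -/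
theorem exists_uv {u v : leechLattice} (hu : sqNorm (u : V) = 48) (hv : v ∈ C1 u 24) :
    ∃ g : Co0, g • uu = u ∧ g • vv = v := by
  obtain ⟨g, rfl⟩ := exists_uu hu
  exact ext_C1 tr552 g hv

theorem exists_uvx {u v x : leechLattice} (hu : sqNorm (u : V) = 48) (hv : v ∈ C1 u 24)
    (hx : x ∈ C2 u 24 v 16) : ∃ g : Co0, g • uu = u ∧ g • vv = v ∧ g • xx = x := by
  obtain ⟨g, rfl, rfl⟩ := exists_uv hu hv
  exact ext_C2 tr275 g hx

theorem mem_C1_24 {u v : leechLattice} (hu : sqNorm (u : V) = 48) :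
    (sqNorm (v : V) = 32 ∧ sqNorm ((u - v) : V) = 32) ↔ v ∈ C1 u 24 := by
  rw [sqNorm_sub, hu]
  constructor
  · rintro ⟨h1, h2⟩; exact ⟨h1, by omega⟩
  · rintro ⟨h1, h2⟩; exact ⟨h1, by omega⟩

end Cfsg.Agent.Leech
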