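import Cfsg.Agent.Leech.Orb1

/-! Orbits inside the sets of 11178 and 4600 minimal vectors. -/

set_option autoImplicit false

namespace Cfsg.Agent.Leech
open Cfsg MulAction
open Cfsg.Agent.Golay (bfs mapL)

theorem hh_mem : hh ∈ C1 uu (-16) := ⟨norm_hh, by decide +kernel⟩
theorem norm_nh : sqNorm ((-hh : leechLattice) : V) = 32 := by decide +kernel
theorem nh_mem : -hh ∈ C1 uu 16 := ⟨norm_nh, by decide +kernel⟩
theorem nh_mem' : -hh ∈ C2 uu 16 vv 0 := ⟨nh_mem, by decide +kernel⟩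
theorem cd_nh : cd (-hh) = 0x621084210842108421084210842104 := by decide +kernel
theorem nx_mem : -xx ∈ C1 vv (-16) := ⟨by decide +kernel, by decide +kernel⟩
theorem cd_nx : cd (-xx) = 0x221084210842108421084210842088 := by decide +kernel

theorem b11178a : bfs vact (mapL prep co3C) 0x22108421084210842108421084210c 12000 (finH 0x22108421084210842108421084210c) = 0x1600000000000000000000000000000000000000000000000000000001000000044c015e00101d02baa := by
  decide +kernel
theorem b11178b : bfs vact (mapL prep co3C) 0x621084210842108421084210842104 12000 (finH 0x62108421084210842108421084210c) =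
    0x7e901bd8007e902baa := by decide +kernel

theorem o11178 : (∀ y ∈ C1 uu (-16), ∃ g ∈ stabilizer Co0 uu, g • hh = y) ∧
    ∀ (c : ℤ) (j : ℕ), (8 ∣ c ∧ -48 ≤ c ∧ c ≤ 48 ∧ c / 8 % 16 = j) → (C2 uu (-16) hh c).ncard =
      0x1600000000000000000000000000000000000000000000000000000001000000044c015e00101d02baa / 2 ^ 20 / (2 ^ 20) ^ j % 2 ^ 20 :=
  orbit_census in_co3 cd_hh (fun _ h => h.1) (ncard_11178 norm_uu) (C1.stab hh_mem)
    (norm_hh.le.trans (by norm_num)) cd_hh _ b11178a (by decide +kernel)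

theorem tr11178 : ∀ y ∈ C1 uu (-16), ∃ g ∈ stabilizer Co0 uu, g • hh = y := o11178.1
theorem n352' : (C2 uu (-16) hh (-8)).ncard = 352 :=
  (o11178.2 _ 15 (by decide)).trans (by decide +kernel)
theorem n1100 : (C2 uu (-16) hh 16).ncard = 1100 := (o11178.2 _ 2 (by decide)).trans (by decide +kernel)
theorem n4125 : (C2 uu (-16) hh 0).ncard = 4125 := (o11178.2 _ 0 (by decide)).trans (by decide +kernel)
theorem n5600 : (C2 uu (-16) hh 8).ncard = 5600 := (o11178.2 _ 1 (by decide)).trans (by decide +kernel)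

theorem n2025 : (C2 uu 16 vv 0).ncard = 2025 :=
  ((orbit_census in_co3 cd_nh (fun _ h => h.1) (ncard_11178' norm_uu) (C1.stab nh_mem)
    (norm_vv.le.trans (by norm_num)) cd_vv _ b11178b (by decide +kernel)).2 0 0 (by decide)).trans
    (by decide +kernel)

/-- a base point -/
def z352 : leechLattice := decL 0x42106420c6318c8421084210841906 (by decide +kernel)
/-- a base point -/
def z1100 : leechLattice := decL 0x221084210842108421084210842188 (by decide +kernel)
/-- a base point -/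
def z4125 : leechLattice := decL 0x31908418c64290a421084210842106 (by decide +kernel)
/-- a base point -/
def z5600 : leechLattice := decL 0x3190641908320ca421084210842908 (by decide +kernel)

theorem z352_mem : z352 ∈ C2 uu (-16) hh (-8) :=
  ⟨⟨by decide +kernel, by decide +kernel⟩, by decide +kernel⟩
theorem z1100_mem : z1100 ∈ C2 uu (-16) hh 16 :=
  ⟨⟨by decide +kernel, by decide +kernel⟩, by decide +kernel⟩
theorem z4125_mem : z4125 ∈ C2 uu (-16) hh 0 :=
  ⟨⟨by decide +kernel, by decide +kernel⟩, by decide +kernel⟩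
theorem z5600_mem : z5600 ∈ C2 uu (-16) hh 8 :=
  ⟨⟨by decide +kernel, by decide +kernel⟩, by decide +kernel⟩

theorem tr352' : ∀ y ∈ C2 uu (-16) hh (-8),
    ∃ g ∈ stabilizer Co0 uu ⊓ stabilizer Co0 hh, g • z352 = y :=
  orbit_trans in_hs' (enc_decL _ _) (fun _ h => h.1.1) n352' (C2.stab z352_mem) (by norm_num)
    (by decide +kernel)
theorem tr1100 : ∀ y ∈ C2 uu (-16) hh 16,
    ∃ g ∈ stabilizer Co0 uu ⊓ stabilizer Co0 hh, g • z1100 = y :=
  orbit_trans in_hs' (enc_decL _ _) (fun _ h => h.1.1) n1100 (C2.stab z1100_mem) (by norm_num)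
    (by decide +kernel)
theorem tr4125 : ∀ y ∈ C2 uu (-16) hh 0,
    ∃ g ∈ stabilizer Co0 uu ⊓ stabilizer Co0 hh, g • z4125 = y :=
  orbit_trans in_hs' (enc_decL _ _) (fun _ h => h.1.1) n4125 (C2.stab z4125_mem) (by norm_num)
    (by decide +kernel)
theorem tr5600 : ∀ y ∈ C2 uu (-16) hh 8,
    ∃ g ∈ stabilizer Co0 uu ⊓ stabilizer Co0 hh, g • z5600 = y :=
  orbit_trans in_hs' (enc_decL _ _) (fun _ h => h.1.1) n5600 (C2.stab z5600_mem) (by norm_num)
    (by decide +kernel)

theorem tr4600 : ∀ y ∈ C1 vv (-16), ∃ g ∈ stabilizer Co0 vv, g • (-xx) = y :=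
  orbit_trans in_co2 cd_nx (fun _ h => h.1) (ncard_4600 norm_vv) (C1.stab nx_mem) (by norm_num)
    (by decide +kernel)

theorem b2025 : bfs vact (mapL prep mclC) 0x621084210842108421084210842104 2100 (finH 0x621084210842108421084210842104) =
    0x100000001ce004d00014a007e9 := by decide +kernel

theorem o2025 : (∀ y ∈ C2 uu 16 vv 0, ∃ g ∈ stabilizer Co0 uu ⊓ stabilizer Co0 vv, g • (-hh) = y) ∧
    ∀ (c : ℤ) (j : ℕ), (8 ∣ c ∧ -48 ≤ c ∧ c ≤ 48 ∧ c / 8 % 16 = j) → (C3 uu 16 vv 0 (-hh) c).ncard =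
      0x100000001ce004d00014a007e9 / 2 ^ 20 / (2 ^ 20) ^ j % 2 ^ 20 :=
  orbit_census in_mcl cd_nh (fun _ h => h.1.1) n2025 (C2.stab nh_mem')
    (norm_nh.le.trans (by norm_num)) cd_nh _ b2025 (by decide +kernel)

theorem tr2025 : ∀ y ∈ C2 uu 16 vv 0, ∃ g ∈ stabilizer Co0 uu ⊓ stabilizer Co0 vv, g • (-hh) = y :=
  o2025.1
theorem n330 : (C3 uu 16 vv 0 (-hh) 0).ncard = 330 := (o2025.2 _ 0 (by decide)).trans (by decide +kernel)
theorem n462 : (C3 uu 16 vv 0 (-hh) 16).ncard = 462 :=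
  (o2025.2 _ 2 (by decide)).trans (by decide +kernel)
theorem n1232 : (C3 uu 16 vv 0 (-hh) 8).ncard = 1232 :=
  (o2025.2 _ 1 (by decide)).trans (by decide +kernel)

/-- a base point -/
def y330 : leechLattice := decL 0x429085210a5294a421084210842148 (by decide +kernel)
/-- a base point -/
def y462 : leechLattice := decL 0x519084294a4290a421084210842106 (by decide +kernel)
/-- a base point -/
def y1232 : leechLattice := decL 0x4a5274a4e739ce94a5294a5294ad27 (by decide +kernel)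

theorem y330_mem : y330 ∈ C3 uu 16 vv 0 (-hh) 0 :=
  ⟨⟨⟨by decide +kernel, by decide +kernel⟩, by decide +kernel⟩, by decide +kernel⟩
theorem y462_mem : y462 ∈ C3 uu 16 vv 0 (-hh) 16 :=
  ⟨⟨⟨by decide +kernel, by decide +kernel⟩, by decide +kernel⟩, by decide +kernel⟩
theorem y1232_mem : y1232 ∈ C3 uu 16 vv 0 (-hh) 8 :=
  ⟨⟨⟨by decide +kernel, by decide +kernel⟩, by decide +kernel⟩, by decide +kernel⟩

theorem tr330 : ∀ y ∈ C3 uu 16 vv 0 (-hh) 0,
    ∃ g ∈ stabilizer Co0 uu ⊓ stabilizer Co0 vv ⊓ stabilizer Co0 (-hh), g • y330 = y :=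
  orbit_trans in_m22' (enc_decL _ _) (fun _ h => h.1.1.1) n330 (C3.stab y330_mem) (by norm_num)
    (by decide +kernel)
theorem tr462 : ∀ y ∈ C3 uu 16 vv 0 (-hh) 16,
    ∃ g ∈ stabilizer Co0 uu ⊓ stabilizer Co0 vv ⊓ stabilizer Co0 (-hh), g • y462 = y :=
  orbit_trans in_m22' (enc_decL _ _) (fun _ h => h.1.1.1) n462 (C3.stab y462_mem) (by norm_num)
    (by decide +kernel)
theorem tr1232 : ∀ y ∈ C3 uu 16 vv 0 (-hh) 8,
    ∃ g ∈ stabilizer Co0 uu ⊓ stabilizer Co0 vv ⊓ stabilizer Co0 (-hh), g • y1232 = y :=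
  orbit_trans in_m22' (enc_decL _ _) (fun _ h => h.1.1.1) n1232 (C3.stab y1232_mem) (by norm_num)
    (by decide +kernel)

theorem card_hs' : Nat.card ↥(stabilizer Co0 uu ⊓ stabilizer Co0 hh) = 44352000 :=
  card_inf_stab (C1.stab hh_mem) tr11178 (card_stab48 _ norm_uu) (ncard_11178 norm_uu) (by norm_num)
    (by norm_num)

theorem card_hs : Nat.card ↥(stabilizer Co0 uu ⊓ stabilizer Co0 ww) = 44352000 := hs_eq ▸ card_hs'

theorem card_m22 : Nat.card ↥(stabilizer Co0 uu ⊓ stabilizer Co0 ww ⊓ stabilizer Co0 vv) = 443520 :=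
  card_inf_stab (C2.stab vv_mem') tr100 card_hs n100 (by norm_num) (by norm_num)

theorem card_u62 : Nat.card ↥(stabilizer Co0 vv ⊓ stabilizer Co0 (-xx)) = 9196830720 :=
  card_inf_stab (C1.stab nx_mem) tr4600 (card_stab32 _ norm_vv) (ncard_4600 norm_vv) (by norm_num)
    (by norm_num)

theorem card_u35 : Nat.card ↥(stabilizer Co0 uu ⊓ stabilizer Co0 ww ⊓ stabilizer Co0 y352) = 126000 :=
  card_inf_stab (C2.stab y352_mem) tr352 card_hs n352 (by norm_num) (by norm_num)

theorem exists_uh {u x : leechLattice} (hu : sqNorm (u : V) = 48) (hx : x ∈ C1 u (-16)) :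
    ∃ g : Co0, g • uu = u ∧ g • hh = x := by
  obtain ⟨g, rfl⟩ := exists_uu hu
  exact ext_C1 tr11178 g hx

/-- all pairs of vectors of norm 48 with product `-32` are equivalent -/
theorem exists_uw {v w : leechLattice} (hv : sqNorm (v : V) = 48) (hw : sqNorm (w : V) = 48)
    (h : dotInt (v : V) (w : V) = -32) : ∃ g : Co0, g • uu = v ∧ g • ww = w := by
  obtain ⟨g, h1, h2⟩ := exists_uh (x := -v - w) hv ⟨by
    rw [AddSubgroup.coe_sub, AddSubgroup.coe_neg, sqNorm_sub, sqNorm_neg, dot_neg_left, hv, hw, h]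
    norm_num, by
    rw [AddSubgroup.coe_sub, AddSubgroup.coe_neg, dot_sub_right, dot_neg_right, dot_self, hv, h]
    norm_num⟩
  refine ⟨g, h1, ?_⟩
  rw [ww, smul_sub, smul_neg, h1, h2]; abel

theorem exists_uwv {v w x : leechLattice} (hv : sqNorm (v : V) = 48) (hw : sqNorm (w : V) = 48)
    (h : dotInt (v : V) (w : V) = -32) (hx : x ∈ C2 v 24 w (-24)) :
    ∃ g : Co0, g • uu = v ∧ g • ww = w ∧ g • vv = x := by
  obtain ⟨g, rfl, rfl⟩ := exists_uw hv hw h
  exact ext_C2 tr100 g hx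

/-- all pairs of minimal vectors with product `-8` are equivalent -/
theorem exists_vw {v w : leechLattice} (hv : sqNorm (v : V) = 32) (hw : sqNorm (w : V) = 32)
    (h : dotInt (v : V) (w : V) = -8) : ∃ g : Co0, g • uu = v + w ∧ g • vv = v :=
  exists_uv (by rw [AddSubgroup.coe_add, sqNorm_add, hv, hw, h]; norm_num)
    ⟨hv, by rw [AddSubgroup.coe_add, dot_add_left, dot_self, dot_comm, hv, h]; norm_num⟩

/-- all pairs of minimal vectors with product `-16` are equivalent -/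
theorem exists_vx {v w : leechLattice} (hv : sqNorm (v : V) = 32) (hw : w ∈ C1 v (-16)) :
    ∃ g : Co0, g • vv = v ∧ g • (-xx) = w := by
  obtain ⟨g, rfl⟩ := exists_vv hv
  exact ext_C1 tr4600 g hw

end Cfsg.Agent.Leech
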