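import Cfsg.Agent.Leech.Orb2
import Cfsg.Agent.Leech.OrbList

/-! Orbits inside the set of 47104 minimal vectors. -/

set_option autoImplicit false

namespace Cfsg.Agent.Leech
open Cfsg MulAction
open Cfsg.Agent.Golay (bfs mapL sumBig force force_eq isZ)

theorem ix_lt (a n : ℕ) : ix a n < 16 := by
  unfold ix
  rw [show (nat_lit 15) = 2 ^ 4 - 1 from rfl, land_ones]
  exact Nat.mod_lt _ (by norm_num)

/-- the summand of the census for two vectors -/
noncomputable def cenF2 (A i B k : ℕ) : ℕ :=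
  force (tM k) fun n => pw (Nat.add (ix B n) (Nat.mul (nat_lit 16) (isZ (Nat.xor (ix A n) i))))

theorem census2 {a b : leechLattice} (ha : sqNorm (a : V) ≤ 48) (hb : sqNorm (b : V) ≤ 48)
    {A B R1 R2 R3 R4 : ℕ} (hA : cd a = A) (hB : cd b = B) (c : ℤ) (i : ℕ)
    (hc : 8 ∣ c ∧ -48 ≤ c ∧ c ≤ 48 ∧ c / 8 % 16 = i)
    (h1 : sumBig (cenF2 A i B) 49140 = R1) (h2 : sumBig (fun k => cenF2 A i B (Nat.add 49140 k)) 49140 = R2)
    (h3 : sumBig (fun k => cenF2 A i B (Nat.add 98280 k)) 49140 = R3)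
    (h4 : sumBig (fun k => cenF2 A i B (Nat.add 147420 k)) 49140 = R4) (d : ℤ) (j : ℕ)
    (hd : 8 ∣ d ∧ -48 ≤ d ∧ d ≤ 48 ∧ d / 8 % 16 = j) :
    (C2 a c b d).ncard = (R1 + R2 + R3 + R4) / (2 ^ 20) ^ (16 + j) % 2 ^ 20 := by
  have h := sumBig_four (cenF2 A i B) 49140
  rw [h1, h2, h3, h4, Golay.sumBig_eq] at h
  rw [← h]
  simp only [cenF2, force_eq, pw_eq]
  rw [digit_sum _ (fun k => Nat.add (ix B (tM k)) (Nat.mul (nat_lit 16) (isZ (Nat.xor (ix A (tM k)) i))))
    _ _ (by simp)]
  have e : C2 a c b d = {x | x ∈ L2 ∧ (dotInt (a : V) (x : V) = c ∧ dotInt (b : V) (x : V) = d)} := by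
    ext x; exact and_assoc
  rw [e]
  refine enum_L2.ncard_filter _
    (fun n => Nat.add (ix B n) (Nat.mul (nat_lit 16) (isZ (Nat.xor (ix A n) i))) = 16 + j) fun x hx => ?_
  have hx' : sqNorm (x : V) ≤ 48 := by rw [show sqNorm (x : V) = 32 from hx]; norm_num
  rw [← ix_iff ha hx' c i hc, ← ix_iff hb hx' d j hd, hA, hB, Golay.isZ_eq, Nat.add_eq, Nat.mul_eq]
  simp only [Golay.xor_eq_zero_iff']
  have := ix_lt B (cd x)
  have h16 : (nat_lit 16) = 16 := rfl
  generalize ix B (cd x) = s at *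
  generalize ix A (cd x) = t at *
  split_ifs <;> omega

theorem norm_uv : sqNorm ((uu - vv : leechLattice) : V) = 32 := by decide +kernel
theorem uv_mem : uu - vv ∈ C1 vv (-8) := ⟨norm_uv, by decide +kernel⟩
theorem cd_uv : cd (uu - vv) = 0x4a5294a5294a5294a5294a5294a525 := by decide +kernel

theorem cenW1 : sumBig (cenF2 0x62108421084210842108421084210c 15 0x4a5294a5294a5294a5294a5294a525) 49140 = 0x7b90005a00000000000000000000000000000000000000000000000000000000027600ebe0139d026b90046b00000000000000000000000000000000000000000000000000000000024e01fa3045fb := by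
  decide +kernel
theorem cenW2 : sumBig (fun k => cenF2 0x62108421084210842108421084210c 15 0x4a5294a5294a5294a5294a5294a525 (Nat.add 49140 k)) 49140 =
    0x7670005600000000000000000000000000000000000000000000000001000000025b00e22012e302627003e10000000000000000000000000000000000000000000000000000000001f401f7d0495d := by decide +kernel
theorem cenW3 : sumBig (fun k => cenF2 0x62108421084210842108421084210c 15 0x4a5294a5294a5294a5294a5294a525 (Nat.add 98280 k)) 49140 =
    0x4d800015000000000000000000000000000000000000000000000000000000000222011b80173702290002b60000000000000000000000000000000000000000000000000000000003f9022e1043d6 := by decide +kernel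
theorem cenW4 : sumBig (fun k => cenF2 0x62108421084210842108421084210c 15 0x4a5294a5294a5294a5294a5294a525 (Nat.add 147420 k)) 49140 =
    0x7e00004e0000000000000000000000000000000000000000000000000000000000f600d900194c02cb8005e30000000001000000000000000000000000000000000000000000000001d4019d7041ad := by decide +kernel

theorem cenW (d : ℤ) (j : ℕ) (hd : 8 ∣ d ∧ -48 ≤ d ∧ d ≤ 48 ∧ d / 8 % 16 = j) :
    (C2 vv (-8) (uu - vv) d).ncard =
      0x1bd8001130000000000000000000000000000000000000000000000000100000007e903c280570309c28010e5000000000100000000000000000000000000000000000000000000000a0f07bd8114db / (2 ^ 20) ^ (16 + j) % 2 ^ 20 :=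
  census2 (norm_vv.le.trans (by norm_num)) (norm_uv.le.trans (by norm_num)) cd_vv cd_uv (-8) 15
    (by decide) cenW1 cenW2 cenW3 cenW4 d j hd

theorem m2025 : (C2 vv (-8) (uu - vv) 16).ncard = 2025 := (cenW _ 2 (by decide)).trans (by decide +kernel)
theorem m15400 : (C2 vv (-8) (uu - vv) 8).ncard = 15400 :=
  (cenW _ 1 (by decide)).trans (by decide +kernel)
theorem m22275 : (C2 vv (-8) (uu - vv) 0).ncard = 22275 :=
  (cenW _ 0 (by decide)).trans (by decide +kernel)
theorem m7128 : (C2 vv (-8) (uu - vv) (-8)).ncard = 7128 :=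
  (cenW _ 15 (by decide)).trans (by decide +kernel)
theorem m275 : (C2 vv (-8) (uu - vv) (-16)).ncard = 275 :=
  (cenW _ 14 (by decide)).trans (by decide +kernel)

theorem in_mcl' : Golay.In gc (stabilizer Co0 vv ⊓ stabilizer Co0 (uu - vv)) mclC :=
  stab_sub uu vv ▸ in_mcl

/-- a base point -/
def q2025 : leechLattice := decL 0x421064214a52948421084210842906 (by decide +kernel)
/-- a base point -/
def q15400 : leechLattice := decL 0x3190a429085214a421084210842908 (by decide +kernel)
/-- a base point -/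
def q22275 : leechLattice := decL 0x31906419085214a421084210842908 (by decide +kernel)
/-- a base point -/
def q7128 : leechLattice := decL 0x3190641908320ca421084210842908 (by decide +kernel)
/-- a base point -/
def q275 : leechLattice := decL 0x3190641908320c6421084210841908 (by decide +kernel)

theorem q2025_mem : q2025 ∈ C2 vv (-8) (uu - vv) 16 :=
  ⟨⟨by decide +kernel, by decide +kernel⟩, by decide +kernel⟩
theorem q15400_mem : q15400 ∈ C2 vv (-8) (uu - vv) 8 :=
  ⟨⟨by decide +kernel, by decide +kernel⟩, by decide +kernel⟩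
theorem q22275_mem : q22275 ∈ C2 vv (-8) (uu - vv) 0 :=
  ⟨⟨by decide +kernel, by decide +kernel⟩, by decide +kernel⟩
theorem q7128_mem : q7128 ∈ C2 vv (-8) (uu - vv) (-8) :=
  ⟨⟨by decide +kernel, by decide +kernel⟩, by decide +kernel⟩
theorem q275_mem : q275 ∈ C2 vv (-8) (uu - vv) (-16) :=
  ⟨⟨by decide +kernel, by decide +kernel⟩, by decide +kernel⟩

theorem tq2025 : ∀ y ∈ C2 vv (-8) (uu - vv) 16,
    ∃ g ∈ stabilizer Co0 vv ⊓ stabilizer Co0 (uu - vv), g • q2025 = y :=
  orbit_trans in_mcl' (enc_decL _ _) (fun _ h => h.1.1) m2025 (C2.stab q2025_mem) (by norm_num)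
    (by decide +kernel)
theorem tq15400 : ∀ y ∈ C2 vv (-8) (uu - vv) 8,
    ∃ g ∈ stabilizer Co0 vv ⊓ stabilizer Co0 (uu - vv), g • q15400 = y :=
  orbit_trans in_mcl' (enc_decL _ _) (fun _ h => h.1.1) m15400 (C2.stab q15400_mem) (by norm_num)
    (by decide +kernel)
theorem tq22275 : ∀ y ∈ C2 vv (-8) (uu - vv) 0,
    ∃ g ∈ stabilizer Co0 vv ⊓ stabilizer Co0 (uu - vv), g • q22275 = y :=
  orbit_trans in_mcl' (enc_decL _ _) (fun _ h => h.1.1) m22275 (C2.stab q22275_mem) (by norm_num)
    (by decide +kernel)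
theorem tq7128 : ∀ y ∈ C2 vv (-8) (uu - vv) (-8),
    ∃ g ∈ stabilizer Co0 vv ⊓ stabilizer Co0 (uu - vv), g • q7128 = y :=
  orbit_trans in_mcl' (enc_decL _ _) (fun _ h => h.1.1) m7128 (C2.stab q7128_mem) (by norm_num)
    (by decide +kernel)
theorem tq275 : ∀ y ∈ C2 vv (-8) (uu - vv) (-16),
    ∃ g ∈ stabilizer Co0 vv ⊓ stabilizer Co0 (uu - vv), g • q275 = y :=
  orbit_trans in_mcl' (enc_decL _ _) (fun _ h => h.1.1) m275 (C2.stab q275_mem) (by norm_num)
    (by decide +kernel)

theorem tr47104 : ∀ y ∈ C1 vv (-8), ∃ g ∈ stabilizer Co0 vv, g • (uu - vv) = y := fun y hy => by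
  obtain ⟨g, h1, h2⟩ := exists_vw norm_vv hy.1 hy.2
  exact ⟨g, h2, by rw [smul_sub, h1, h2]; abel⟩

end Cfsg.Agent.Leech
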