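import Cfsg.Agent.Leech.OutCo2

/-! The outer automorphism group of the first Conway group. -/

set_option autoImplicit false

namespace Cfsg.Agent.Leech.OutCo1
open Cfsg MulAction OutPass OutCo2
open Cfsg.Agent.Golay (In)

attribute [local irreducible] gc gmul gone evC pwG gneg

/-- the projection -/
abbrev pr : Co0 →* Co0 ⧸ Subgroup.center Co0 := QuotientGroup.mk' _

theorem pr_eq_one {g : Co0} : pr g = 1 ↔ g = 1 ∨ g = negCo := by
  rw [← mem_center_iff]; exact QuotientGroup.eq_one_iff g

theorem pr_neg (g : Co0) : pr (negCo * g) = pr g := by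
  rw [map_mul, pr_eq_one.2 (Or.inr rfl), one_mul]

theorem neg_comm (g : Co0) : Commute negCo g := (Subgroup.mem_center_iff.1 negCo_central g).symm

theorem order_neg : orderOf negCo = 2 := orderOf_eq_prime (by rw [pow_two, negCo_sq]) negCo_ne_one

theorem lift_comm {x g : Co0} {n : ℕ} (hn : Odd n) (hx : x ^ n = 1) (h : pr g * pr x = pr x * pr g) :
    g * x = x * g := by
  have h1 : pr (g * x * g⁻¹ * x⁻¹) = 1 := by
    rw [map_mul, map_mul, map_mul, h, map_inv, map_inv]; group
  rcases pr_eq_one.1 h1 with e | e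
  · rwa [mul_inv_eq_one, mul_inv_eq_iff_eq_mul] at e
  · exfalso
    rw [mul_inv_eq_iff_eq_mul] at e
    have h2 : (g * x * g⁻¹) ^ n = 1 := by rw [conj_pow, hx]; group
    obtain ⟨k, rfl⟩ := hn
    rw [e, (neg_comm x).mul_pow, hx, mul_one, pow_succ, pow_mul, pow_two, negCo_sq, one_pow, one_mul] at h2
    exact negCo_ne_one h2

/-- the graph of an automorphism of the quotient -/
def graphQ (ψ : MulAut (Co0 ⧸ Subgroup.center Co0)) : Subgroup (Co0 × Co0) :=
  (ψ.toMonoidHom.comp (pr.comp (MonoidHom.fst _ _))).eqLocus (pr.comp (MonoidHom.snd _ _))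

theorem mem_graphQ {ψ : MulAut (Co0 ⧸ Subgroup.center Co0)} {g g' : Co0} :
    (g, g') ∈ graphQ ψ ↔ ψ (pr g) = pr g' := Iff.rfl

theorem graphQ_one (ψ : MulAut (Co0 ⧸ Subgroup.center Co0)) (g : Co0) (h : (1, g) ∈ graphQ ψ) :
    g ^ 2 = 1 := by
  rw [mem_graphQ, map_one, map_one] at h
  rcases pr_eq_one.1 h.symm with rfl | rfl
  · simp
  · rw [pow_two, negCo_sq]

theorem pr_of_mem {g t : Co0} {T T' : ℕ} (eT : gc t = T) (e : gmul gneg T = T') (h : gc g ∈ [T, T']) :
    pr g = pr t := by
  rw [← eT, ← gc_negCo, gmul_gc] at e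
  rw [← eT, ← e] at h
  simp only [List.mem_cons, List.not_mem_nil, or_false, gc_injective.eq_iff] at h
  rcases h with rfl | rfl
  · rfl
  · exact pr_neg t

/-- an element of order 3 -/
def R : ℕ := 0x3210a32108320c6521084294a5290400000003210a321085214a52108418ca518880000000428c8418c641908428ca52108411460000000428c8428c6429084194652108220c6000000042948428ca41908428c632104420c60000000428c84294a429084294a3208842146000000041948418c64290842946311084214600000005210a3210852146321082294a31908000000052106521083214652104428ca5190800000005210a52108520c652088418ca3290800000005210a32108320c631108418c6519080000000418c84194a42908228c652108420c6000000042948418ca429044294a52108420ca0000000428c841946418884294632108420ca000000032106321083114632108418ca329080000000418c8428c622908428ca32108420ca00000003210a521045214632108428c65290800000005210632088520ca32108428ca5290800000005210a311083214a52108428c6329080000000429482294642908428c6521084214a0000000429444194642908418ca32108420c6000000052086321085214652108419465290800000003110632108520c652108428c6319080000000228c8418ca42908418c6321084214a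
/-- its negative -/
def R' : ℕ := 0x52106521085214a32108418c63190c00000005210652108320c63210842946329880000000419484294a429084194632108430ca0000000419484194a41908428ca321086214a0000000418c841946429084194a5210c4214a000000041948418c641908418c652188420ca0000000428c84294a41908418ca53108420ca00000003210652108320ca52108618c65290800000003210a32108520ca3210c4194632908000000032106321083214a321884294651908000000032106521085214a531084294a32908000000042948428c6419086194a321084214a0000000418c8429464190c418c63210842146000000041948428ca42988418ca521084214600000005210a52108530ca5210842946519080000000429484194a619084194652108421460000000521063210c320ca521084194a3190800000003210a521883214652108419463190800000003210653108520c6321084194a519080000000418c8618ca419084194a32108420c60000000418cc428ca4190842946521084214a00000003218a52108320ca32108428ca3190800000005310a521083214a321084194a5290800000006194842946419084294a52108420c6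
/-- the negative of `T` -/
def T' : ℕ := 0x22108518c6428c852108429084210400000004210832946229485210842908421880000000328c6421085210a41946320ca5194a0000000328ca421085210a428ca521465294a0000000431085294a418c45210842908421080000000528ca421083210a428c6320ca528c6000000042188318ca4194852108429086210800000004210851946419483210442904421080000000518ca42108521064294a320c6519460000000411085294a418cc52108429084210800000004210851946419483210c4290c42108000000042108328c6418c832108229884210800000004218852946428c8321084190862108000000042104528ca4294833108429084210800000003194a4210852106428c6320ca3294a000000042108528c6419485208841908411080000000318ca4210832106429465214a518ca0000000421083294662948521084290842088000000042108528c64194852188419084310800000004210431946418c85310841908421080000000318c64210832106418ca320c6528ca00000003294a421083210a4294a320c6318ca0000000421085194a429485210821988421080000000221083294a41948321084190842104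

theorem cands1 {c : Co0} (eC : gc c = C) : ∀ z ∈ ⊤ ⊓ Subgroup.centralizer {c},
      candErr A C T 2 [([0, 2], 16), ([0, 0, 2], 30), ([0, 2, 2], 15), ([0, 0, 0, 2], 24)] [T, T'] (gc z) = 0 :=
  forall_of_bfsG (in_cent_c eC) (cent_c eC) _ (by norm_num) (by decide +kernel)

theorem cands2 {c : Co0} (eC : gc c = C) : ∀ z ∈ ⊤ ⊓ Subgroup.centralizer {c},
      candErr A' C T 2 [([0, 2], 16), ([0, 0, 2], 30), ([0, 2, 2], 15), ([0, 0, 0, 2], 24)] [] (gc z) = 0 :=
  forall_of_bfsG (in_cent_c eC) (cent_c eC) _ (by norm_num) (by decide +kernel)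

theorem cands3 {c : Co0} (eC : gc c = C) : ∀ z ∈ ⊤ ⊓ Subgroup.centralizer {c},
      candErr A T R 2 [([0, 2], 30), ([0, 2, 2], 24), ([0, 1, 2], 46)] [R, R'] (gc z) = 0 :=
  forall_of_bfsG (in_cent_c eC) (cent_c eC) _ (by norm_num) (by decide +kernel)

theorem move {F : Subgroup Co0} (h : In gc F [A, C, T, R]) (w : List ℕ) (s : ℕ) {c : ℤ}
    (e : (dd 0x62108421084210842108421084210c (ap1 (gmul (pwG gneg s) (evC [A, C, T, R] w)) 0x62108421084210842108421084210c) : ℤ) = c + 524288)
    (h0 : negCo ∈ F) : ∃ g ∈ F, dotInt (vv : V) ((g • vv : leechLattice) : V) = c := by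
  obtain ⟨g, hg, eg⟩ := in_evCs h [w] _ List.mem_cons_self
  refine ⟨negCo ^ s * g, F.mul_mem (F.pow_mem h0 s) hg, ?_⟩
  rw [← eg, ← gc_negCo, pwG_gc, gmul_gc, ← cd_vv, ← vact_prep, vact_gc _ sh_vv,
    dd_cast sh_vv (sh_vv.smul _)] at e
  omega

theorem card_out : Nat.card (Out (Co0 ⧸ Subgroup.center Co0)) = 1 := by
  have : Fact (Nat.Prime 23) := ⟨by norm_num⟩
  obtain ⟨a, ha, eA⟩ := in_gens A (by simp)
  obtain ⟨c, hc, eC⟩ := in_gens C (by simp)
  obtain ⟨t, ht, eT⟩ := in_gens T (by simp)
  obtain ⟨r, -, eR⟩ := in_top (cs := [R]) (by decide +kernel) R (by simp)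
  have a23 : a ^ 23 = 1 := gc_injective (by rw [← pwG_gc, eA, gc_one]; decide +kernel)
  have c11 : c ^ 11 = 1 := gc_injective (by rw [← pwG_gc, eC, gc_one]; decide +kernel)
  have a1 : a ≠ 1 := fun e => absurd (eA.symm.trans ((congrArg gc e).trans gc_one)) (by decide +kernel)
  have a2 : a ≠ negCo := fun e =>
    absurd (eA.symm.trans ((congrArg gc e).trans gc_negCo)) (by decide +kernel)
  have oa : orderOf a = 23 := orderOf_eq_prime a23 a1
  have eA' : gc a⁻¹ = A' := gc_inv_of eA (by decide +kernel) (by decide +kernel)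
  have hca : c * a * c⁻¹ = a ^ 2 := by
    rw [mul_inv_eq_iff_eq_mul]
    refine gc_injective ?_
    rw [← gmul_gc, ← gmul_gc, ← pwG_gc, eA, eC]; decide +kernel
  have htc : t * c * t⁻¹ = c ^ 2 := by
    rw [mul_inv_eq_iff_eq_mul]
    refine gc_injective ?_
    rw [← gmul_gc, ← gmul_gc, ← pwG_gc, eT, eC]; decide +kernel
  have hrc : r * c * r⁻¹ = c ^ 1 := by
    rw [mul_inv_eq_iff_eq_mul]
    refine gc_injective ?_
    rw [← gmul_gc, ← gmul_gc, ← pwG_gc, eR, eC]; decide +kernel
  refine card_out_one fun φ => ?_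
  obtain ⟨g, e1, e2⟩ := aut_normalise (p := 23) (by norm_num) (a := pr a) (c := pr c)
    (orderOf_eq_prime (by rw [← map_pow, a23, map_one]) fun e => (pr_eq_one.1 e).elim a1 a2)
    (by rw [card_co1]; norm_num) (fun x e => by
      obtain ⟨g, rfl⟩ := QuotientGroup.mk'_surjective _ x
      have h1 := lift_comm (by decide) a23 e
      obtain ⟨k, hk⟩ := mem_zpowers_of_card (H := ⊤) (a := negCo * a) trivial (by
        rw [(neg_comm a).orderOf_mul_eq_mul_orderOf_of_coprime (by rw [order_neg, oa]; decide),
          order_neg, oa]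
        refine (Subgroup.card_le_of_le (inf_le_inf_left _ fun y hy => ?_)).trans (cent_a eA)
        rw [Subgroup.mem_centralizer_singleton_iff] at hy ⊢
        rw [← mul_assoc, ← (neg_comm y).eq, mul_assoc, mul_assoc] at hy
        exact mul_left_cancel hy) (g := g) trivial (by
          rw [← mul_assoc, ← (neg_comm g).eq, mul_assoc, h1, mul_assoc])
      exact ⟨k, by rw [← hk]; simp only [map_zpow, pr_neg]⟩) (m := 2)
    (by rw [← map_inv, ← map_mul, ← map_mul, hca, map_pow]) (by decide +kernel) (by decide +kernel) φ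
  set ψ := MulAut.conj g * φ
  have hψ : (ψ : Out (Co0 ⧸ Subgroup.center Co0)) = (φ : Out (Co0 ⧸ Subgroup.center Co0)) := by
    rw [QuotientGroup.mk_mul, (QuotientGroup.eq_one_iff (N := Inn _) (MulAut.conj g)).2 ⟨g, rfl⟩,
      one_mul]
  have key : ∀ (x : Co0) (s : ℕ), x * c * x⁻¹ = c ^ s →
      ∃ z ∈ ⊤ ⊓ Subgroup.centralizer {c}, (x, x * z) ∈ graphQ ψ := by
    intro x s hx
    obtain ⟨y, hy⟩ := QuotientGroup.mk'_surjective _ (ψ (pr x))
    have h1 : pr x * pr c * (pr x)⁻¹ = pr c ^ s := by rw [← map_inv, ← map_mul, ← map_mul, hx, map_pow]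
    have h2 := congrArg ψ h1
    rw [map_mul, map_mul, map_inv, map_pow, e1, ← hy] at h2
    refine ⟨x⁻¹ * y, ⟨trivial, Subgroup.mem_centralizer_singleton_iff.2 (lift_comm (by decide) c11 ?_)⟩,
      by rw [mul_inv_cancel_left]; exact hy.symm⟩
    rw [map_mul, map_inv]
    exact comm_of_conj h1 h2
  obtain ⟨z, hz, h1⟩ := key t 2 htc
  have h2 : (c, c) ∈ graphQ ψ := e1
  rcases e2 with e2 | e2
  swap
  · exact absurd (mem_of_candErr (graphQ_one ψ) (a := a) (a' := a⁻¹) (by rw [mem_graphQ, e2, map_inv]) h2 h1
      eA eC eT eA' eC (by decide +kernel) (cands2 eC z hz)) List.not_mem_nil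
  have h3 : (a, a) ∈ graphQ ψ := e2
  have h4 : (t, t) ∈ graphQ ψ := (mem_graphQ.1 h1).trans (pr_of_mem eT (by decide +kernel)
    (mem_of_candErr (graphQ_one ψ) h3 h2 h1 eA eC eT eA eC (by decide +kernel) (cands1 eC z hz)))
  obtain ⟨z, hz, h1⟩ := key r 1 hrc
  have h5 : (r, r) ∈ graphQ ψ := (mem_graphQ.1 h1).trans (pr_of_mem eR (by decide +kernel)
    (mem_of_candErr (graphQ_one ψ) h3 h4 h1 eA eT eR eA eT (by decide +kernel) (cands3 eC z hz)))
  let F := (ψ.toMonoidHom.comp pr).eqLocus pr
  have h0 : negCo ∈ F := by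
    show ψ (pr negCo) = pr negCo
    rw [pr_eq_one.2 (Or.inr rfl), map_one]
  have h6 : In gc F [A, C, T, R] := by
    intro n hn
    simp only [List.mem_cons, List.not_mem_nil, or_false] at hn
    rcases hn with rfl | rfl | rfl | rfl
    exacts [⟨a, h3, eA⟩, ⟨c, h2, eC⟩, ⟨t, h4, eT⟩, ⟨r, h5, eR⟩]
  have h7 : F = ⊤ := by
    refine eq_top_of_moves (inf_eq_right.1 (gen _ inf_le_right fun n hn => ?_)) h0 ?_
    · simp only [List.mem_cons, List.not_mem_nil, or_false] at hn
      rcases hn with rfl | rfl | rfl
      exacts [⟨a, ⟨h3, ha⟩, eA⟩, ⟨c, ⟨h2, hc⟩, eC⟩, ⟨t, ⟨h4, ht⟩, eT⟩]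
    · rintro _ (rfl | rfl | rfl)
      · exact move h6 [3] 1 (by decide +kernel) h0
      · exact move h6 [3, 0, 2, 0, 3] 0 (by decide +kernel) h0
      · exact move h6 [3, 0, 3] 0 (by decide +kernel) h0
  have h8 : ψ = 1 := MulEquiv.ext fun x => by
    obtain ⟨y, rfl⟩ := QuotientGroup.mk'_surjective _ x
    exact (h7 ▸ Subgroup.mem_top y : y ∈ F)
  rw [← hψ, h8, QuotientGroup.mk_one]

end Cfsg.Agent.Leech.OutCo1
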