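import Cfsg.Agent.Leech.Cert
import Cfsg.Agent.Leech.OutAbs

/-! Automorphisms of subgroups of `Co0`: normalisation on a Frobenius subgroup and elimination of
candidates by relations. -/

set_option autoImplicit false

namespace Cfsg.Agent.Leech
open Cfsg MulAction
open Cfsg.Agent.Golay (In add_eq_zero_iff' xor_eq_zero')

attribute [local irreducible] gc gmul gone evC pwG

/-- one if all values vanish -/
noncomputable def allO {α : Type} (f : α → ℕ) (l : List α) : ℕ :=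
  List.rec (motive := fun _ => ℕ) (nat_lit 1)
    (fun x _ ih => Nat.rec (motive := fun _ => ℕ) ih (fun _ _ => nat_lit 0) (f x)) l

theorem allO_iff {α : Type} (f : α → ℕ) (l : List α) : allO f l = 1 ↔ ∀ x ∈ l, f x = 0 := by
  induction l with
  | nil => exact ⟨fun _ _ h => (by cases h), fun _ => rfl⟩
  | cons x l ih =>
    have : allO f (x :: l) = Nat.rec (motive := fun _ => ℕ) (allO f l) (fun _ _ => nat_lit 0) (f x) :=
      rfl
    rw [this, List.forall_mem_cons, ← ih]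
    cases f x with
    | zero => simp
    | succ t => simp

/-- one if the relations hold, with exponents multiplied by `k` -/
noncomputable def relOK (cs : List ℕ) (k : ℕ) (rels : List (List ℕ × ℕ)) : ℕ :=
  allO (fun r => Nat.xor (Golay.force (evC cs r.1) fun y => pwG y (Nat.mul r.2 k)) gone) rels

theorem relOK_iff (gs : List Co0) (k : ℕ) (rels : List (List ℕ × ℕ)) :
    relOK (gs.map gc) k rels = 1 ↔ ∀ r ∈ rels, evG gs r.1 ^ (r.2 * k) = 1 := by
  unfold relOK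
  rw [allO_iff]
  refine forall₂_congr fun r _ => ?_
  rw [Golay.force_eq, evC_gc, pwG_gc, ← gc_one, Golay.xor_eq_zero_iff', gc_injective.eq_iff, Nat.mul_eq]

theorem relOK_graph {Γ : Subgroup (Co0 × Co0)} {k : ℕ} (hΓ : ∀ g, (1, g) ∈ Γ → g ^ k = 1)
    {gs : List (Co0 × Co0)} (h : ∀ g ∈ gs, g ∈ Γ) {rels : List (List ℕ × ℕ)} {cs cs' : List ℕ}
    (e1 : (gs.map Prod.fst).map gc = cs) (e2 : (gs.map Prod.snd).map gc = cs')
    (h1 : relOK cs 1 rels = 1) : relOK cs' k rels = 1 := by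
  subst e1 e2
  rw [relOK_iff] at h1 ⊢
  intro r hr
  have h2 := Γ.pow_mem (evG_mem h r.1) r.2
  have h3 := evG_map (MonoidHom.fst Co0 Co0) gs r.1
  have h4 := evG_map (MonoidHom.snd Co0 Co0) gs r.1
  have h5 := h1 r hr
  rw [mul_one] at h5
  rw [pow_mul]
  refine hΓ _ ?_
  have : evG gs r.1 ^ r.2 = (1, evG (gs.map Prod.snd) r.1 ^ r.2) := by
    rw [← h5]
    exact Prod.ext (congrArg (· ^ r.2) h3) (congrArg (· ^ r.2) h4)
  rwa [this] at h2

/-- product of the differences with the members of a list -/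
noncomputable def notIn (n : ℕ) (l : List ℕ) : ℕ :=
  List.rec (motive := fun _ => ℕ) (nat_lit 1) (fun z _ ih => Nat.mul (Nat.xor n z) ih) l

theorem mem_of_notIn {n : ℕ} {l : List ℕ} (h : notIn n l = 0) : n ∈ l := by
  induction l with
  | nil => cases h
  | cons z l ih =>
    rcases Golay.mul_eq_zero_iff'.1 (show Nat.mul (Nat.xor n z) (notIn n l) = 0 from h) with h | h
    · rw [xor_eq_zero' h]; exact List.mem_cons_self
    · exact List.mem_cons_of_mem _ (ih h)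

/-- zero unless the relations hold for a candidate that is not listed -/
noncomputable def candErr (A C T : ℕ) (k : ℕ) (rels : List (List ℕ × ℕ)) (Z : List ℕ) (n : ℕ) : ℕ :=
  Golay.force (gmul T n) fun T' => Nat.mul (relOK [A, C, T'] k rels) (notIn T' Z)

theorem mem_of_candErr {Γ : Subgroup (Co0 × Co0)} {k : ℕ} (hΓ : ∀ g, (1, g) ∈ Γ → g ^ k = 1)
    {a c t a' c' z : Co0} (ha : (a, a') ∈ Γ) (hc : (c, c') ∈ Γ) (ht : (t, t * z) ∈ Γ)
    {A C T A' C' : ℕ} (eA : gc a = A) (eC : gc c = C) (eT : gc t = T) (eA' : gc a' = A')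
    (eC' : gc c' = C') {rels : List (List ℕ × ℕ)} (h1 : relOK [A, C, T] 1 rels = 1) {Z : List ℕ}
    (h : candErr A' C' T k rels Z (gc z) = 0) : gc (t * z) ∈ Z := by
  unfold candErr at h
  rw [Golay.force_eq, ← eT, gmul_gc, relOK_graph hΓ (gs := [(a, a'), (c, c'), (t, t * z)])
    (by simp [ha, hc, ht]) (cs := [A, C, T]) (by simp [eA, eC, eT]) (by simp [eA', eC']) h1] at h
  exact mem_of_notIn (by simpa using h)

/-- the graph of an automorphism of a subgroup -/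
def graphSub {H : Subgroup Co0} (ψ : MulAut H) : Subgroup (Co0 × Co0) :=
  (H.subtype.prod (H.subtype.comp ψ.toMonoidHom)).range

theorem mem_graphSub {H : Subgroup Co0} (ψ : MulAut H) (x : H) : ((x : Co0), (ψ x : Co0)) ∈ graphSub ψ :=
  ⟨x, rfl⟩

theorem graphSub_one {H : Subgroup Co0} (ψ : MulAut H) (g : Co0) (h : (1, g) ∈ graphSub ψ) :
    g ^ 1 = 1 := by
  obtain ⟨x, e⟩ := h
  have h1 : x = 1 := Subtype.ext (congrArg Prod.fst e)
  have h2 : (ψ x : Co0) = g := congrArg Prod.snd e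
  rw [← h2, h1]; simp

theorem aut_cases {H : Subgroup Co0} {p : ℕ} (hp : p.Prime) {a c t : H} {A C T A' : ℕ}
    (eA : gc a = A) (eC : gc c = C) (eT : gc t = T) (hA : pwG A p = gone ∧ A ≠ gone ∧ gmul A A' = gone ∧
      gmul A' A = gone) (hA' : errM A' = 0)
    (hG : ¬ p * p ∣ Nat.card H) (hC : Nat.card ↥(H ⊓ Subgroup.centralizer {(a : Co0)}) ≤ p) {m s : ℕ}
    (hc : gmul C A = gmul (pwG A m) C) (ht : gmul T C = gmul (pwG C s) T)
    (hm : ∀ k < p, k ≠ 0 → ∃ j < p, k * m ^ j % p = 1 ∨ (k * m ^ j + 1) % p = 0)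
    (hu : ∀ i < p, ∃ l < p, (l + i + (p - 1) * l * m) % p = 0) {rels : List (List ℕ × ℕ)}
    (h1 : relOK [A, C, T] 1 rels = 1) {Z Z' : List ℕ}
    (h : ∀ z ∈ H ⊓ Subgroup.centralizer {(c : Co0)},
      Nat.add (candErr A C T 1 rels Z (gc z)) (candErr A' C T 1 rels Z' (gc z)) = 0) (φ : MulAut H) :
    ∃ ψ : MulAut H, (ψ : Out H) = φ ∧ ψ c = c ∧
      ((ψ a = a ∧ gc (ψ t) ∈ Z) ∨ (ψ a = a⁻¹ ∧ gc (ψ t) ∈ Z')) := by
  have : Fact p.Prime := ⟨hp⟩
  have ha : orderOf (a : Co0) = p := orderOf_eq_prime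
    (gc_injective (by rw [← pwG_gc, eA, hA.1, gc_one])) fun e => hA.2.1 (by rw [← eA, e, gc_one])
  have eA' : gc ((a⁻¹ : H) : Co0) = A' := by
    refine Eq.trans (congrArg gc ?_) (gc_tg hA')
    refine inv_eq_of_mul_eq_one_right (gc_injective ?_)
    rw [← gmul_gc, eA, gc_tg hA', hA.2.2.1, gc_one]
  have hc' : c * a * c⁻¹ = a ^ m := by
    rw [mul_inv_eq_iff_eq_mul]
    refine Subtype.ext (gc_injective ?_)
    rw [Subgroup.coe_mul, Subgroup.coe_mul, Subgroup.coe_pow, ← gmul_gc, ← gmul_gc, ← pwG_gc, eA, eC, hc]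
  have ht' : t * c * t⁻¹ = c ^ s := by
    rw [mul_inv_eq_iff_eq_mul]
    refine Subtype.ext (gc_injective ?_)
    rw [Subgroup.coe_mul, Subgroup.coe_mul, Subgroup.coe_pow, ← gmul_gc, ← gmul_gc, ← pwG_gc, eT, eC, ht]
  obtain ⟨g, e1, e2⟩ := aut_normalise hp (a := a) (c := c) (by rw [← ha, Subgroup.orderOf_coe]) hG
    (fun g e => by
      obtain ⟨k, hk⟩ := mem_zpowers_of_card a.2 (ha ▸ hC) g.2 (congrArg Subtype.val e)
      exact ⟨k, Subtype.ext (by simpa using hk)⟩) hc' hm hu φ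
  set ψ := MulAut.conj g * φ
  refine ⟨ψ, ?_, e1, ?_⟩
  · rw [QuotientGroup.mk_mul, (QuotientGroup.eq_one_iff (N := Inn _) (MulAut.conj g)).2 ⟨g, rfl⟩,
      one_mul]
  have h2 : ψ t * c * (ψ t)⁻¹ = c ^ s := by
    have := congrArg ψ ht'
    rwa [map_mul, map_mul, map_inv, map_pow, e1] at this
  have h3 := add_eq_zero_iff'.1 (h (t⁻¹ * ψ t : H) ⟨Subtype.coe_prop _,
    Subgroup.mem_centralizer_singleton_iff.2 (congrArg Subtype.val (comm_of_conj ht' h2))⟩)
  have h4 : (t : Co0) * (t⁻¹ * ψ t : H) = ψ t := by simp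
  have h5 : ((c : Co0), (c : Co0)) ∈ graphSub ψ := by have := mem_graphSub ψ c; rwa [e1] at this
  have h6 : ((t : Co0), (t : Co0) * (t⁻¹ * ψ t : H)) ∈ graphSub ψ := h4 ▸ mem_graphSub ψ t
  rcases e2 with e | e
  · refine Or.inl ⟨e, h4 ▸ mem_of_candErr (graphSub_one ψ) ?_ h5 h6 eA eC eT eA eC h1 h3.1⟩
    have := mem_graphSub ψ a; rwa [e] at this
  · refine Or.inr ⟨e, h4 ▸ mem_of_candErr (graphSub_one ψ) ?_ h5 h6 eA eC eT eA' eC h1 h3.2⟩
    have := mem_graphSub ψ a; rwa [e] at this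

theorem aut_ext {H : Subgroup Co0} {a c t : H} {A C T : ℕ} (eA : gc a = A) (eC : gc c = C)
    (eT : gc t = T) (hgen : ∀ F ≤ H, In gc F [A, C, T] → F = H) {ψ τ : MulAut H} (h1 : ψ a = τ a)
    (h2 : ψ c = τ c) (h3 : ψ t = τ t) : ψ = τ := by
  have := hgen ((ψ.toMonoidHom.eqLocus τ.toMonoidHom).map H.subtype) (Subgroup.map_subtype_le _) (by
    intro n hn
    simp only [List.mem_cons, List.not_mem_nil, or_false] at hn
    rcases hn with rfl | rfl | rfl
    · exact ⟨a, ⟨a, h1, rfl⟩, eA⟩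
    · exact ⟨c, ⟨c, h2, rfl⟩, eC⟩
    · exact ⟨t, ⟨t, h3, rfl⟩, eT⟩)
  refine MulEquiv.ext fun x => ?_
  obtain ⟨y, hy, e⟩ : (x : Co0) ∈ (ψ.toMonoidHom.eqLocus τ.toMonoidHom).map H.subtype := by
    rw [this]; exact x.2
  have : y = x := Subtype.ext e
  subst this
  exact hy

/-- a subgroup of `Co0` as a group of permutations -/
noncomputable def subEquiv (H : Subgroup Co0) (K : Subgroup (Equiv.Perm leechLattice))
    (h : ∀ g : Co0, g ∈ H ↔ (g : Equiv.Perm leechLattice) ∈ K) (hK : K ≤ Co0) : H ≃* K :=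
  (H.equivMapOfInjective Co0.subtype Co0.subtype_injective).trans (MulEquiv.subgroupCongr (by
    ext g
    constructor
    · rintro ⟨x, hx, rfl⟩; exact (h x).1 hx
    · intro hg; exact ⟨⟨g, hK hg⟩, (h _).2 hg, rfl⟩))

theorem gc_inv_of {a : Co0} {A A' : ℕ} (eA : gc a = A) (h : errM A' = 0) (e : gmul A A' = gone) :
    gc a⁻¹ = A' := by
  refine Eq.trans (congrArg gc ?_) (gc_tg h)
  refine inv_eq_of_mul_eq_one_right (gc_injective ?_)
  rw [← gmul_gc, eA, gc_tg h, e, gc_one]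

/-- conjugation by an element that preserves a subgroup -/
def conjAut {H : Subgroup Co0} (s : Co0) (h : ∀ g, g ∈ H ↔ s * g * s⁻¹ ∈ H) : MulAut H :=
  H.normalizerMonoidHom ⟨s, h⟩

theorem conjAut_coe {H : Subgroup Co0} (s : Co0) (h : ∀ g, g ∈ H ↔ s * g * s⁻¹ ∈ H) (x : H) :
    (conjAut s h x : Co0) = s * x * s⁻¹ := rfl

theorem conj_fix {s g : Co0} {a b : leechLattice} (h : s • a = b) : (s * g * s⁻¹) • b = b ↔ g • a = a := by
  rw [← h, mul_smul, mul_smul, inv_smul_smul, smul_left_cancel_iff]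

/-- conjugation by an element that exchanges two vectors -/
def swapAut {a b : leechLattice} (s : Co0) (h1 : s • a = b) (h2 : s • b = a) :
    MulAut ↥(stabilizer Co0 a ⊓ stabilizer Co0 b) :=
  conjAut s fun g => by
    simp only [Subgroup.mem_inf, mem_stabilizer_iff, conj_fix h1, conj_fix h2, and_comm]

theorem swapAut_coe {a b : leechLattice} (s : Co0) (h1 : s • a = b) (h2 : s • b = a)
    (x : ↥(stabilizer Co0 a ⊓ stabilizer Co0 b)) : (swapAut s h1 h2 x : Co0) = s * x * s⁻¹ := rfl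

end Cfsg.Agent.Leech
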