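import Cfsg.Agent.Leech.Mono

/-! Orthogonal pairs of minimal vectors; the action modulo two; codes of monomial elements. -/

set_option autoImplicit false

namespace Cfsg.Agent.Leech
open Cfsg Finset
open Cfsg.Agent.Golay (gE get pack packC packC_eq pack_congr pc mk)

theorem two_smul_inj {x y : leechLattice} (h : x + x = y + y) : x = y := by
  apply Subtype.ext; funext i
  have := congrFun (congrArg Subtype.val h) i
  simp only [AddSubgroup.coe_add, Pi.add_apply] at this
  omega

theorem pair0_normal (v w : leechLattice) (hv : sqNorm (v : V) = 32) (hw : sqNorm (w : V) = 32)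
    (hd : dotInt (v : V) (w : V) = 0) :
    ∃ g : Co0, g • (v + w) = e8 none ∧ g • (v - w) = e8 (some 0) := by
  have n1 : sqNorm ((v + w : leechLattice) : V) = 64 := by
    rw [AddSubgroup.coe_add, sqNorm_add, hv, hw, hd]; rfl
  have n2 : sqNorm ((v - w : leechLattice) : V) = 64 := by
    rw [AddSubgroup.coe_sub, sqNorm_sub, hv, hw, hd]; rfl
  obtain ⟨g, hg⟩ := trans_norm (v + w) (e8 none) n1.le (by rw [n1, e8_norm])
  have c1 : Cong (v - w) (v + w) := ⟨-w, by rw [two_nsmul]; abel⟩
  obtain ⟨j, hj⟩ := eq_e8_of_cong (by rw [norm_smul, n2]) (hg ▸ c1.smul g)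
  have hj0 : j ≠ none := by
    rintro rfl
    have h1 := dot_smul g (v + w) (v - w)
    rw [hg, AddSubgroup.coe_add, AddSubgroup.coe_sub, dot_add_left, dot_sub_right, dot_sub_right,
      dot_self, dot_self, dot_comm (w : V), hv, hw, hd] at h1
    rcases hj with h | h <;> rw [h] at h1
    · rw [dot_self, e8_norm] at h1; norm_num at h1
    · rw [AddSubgroup.coe_neg, dot_neg_right, dot_self, e8_norm] at h1; norm_num at h1
  obtain ⟨σ, h1, h2⟩ := exists_m24_2 (a := none) (b := j) (a' := none) (b' := some 0) hj0.symm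
    (by decide)
  rcases hj with h | h
  · exact ⟨permCo σ * g, by rw [mul_smul, hg, permCo_e8, h1], by rw [mul_smul, h, permCo_e8, h2]⟩
  · obtain ⟨c, hc, h3, h4⟩ := exists_cw_sep hj0
    refine ⟨permCo σ * (signCo c hc * g), ?_, ?_⟩
    · rw [mul_smul, mul_smul, hg, signCo_e8, if_neg h4, permCo_e8, h1]
    · rw [mul_smul, mul_smul, h, smul_neg, signCo_e8, if_pos h3, neg_neg, permCo_e8, h2]

theorem trans_pair0 (v w v' w' : leechLattice) (hv : sqNorm (v : V) = 32) (hw : sqNorm (w : V) = 32)
    (hd : dotInt (v : V) (w : V) = 0) (hv' : sqNorm (v' : V) = 32) (hw' : sqNorm (w' : V) = 32)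
    (hd' : dotInt (v' : V) (w' : V) = 0) : ∃ g : Co0, g • v = v' ∧ g • w = w' := by
  obtain ⟨g, h1, h2⟩ := pair0_normal v w hv hw hd
  obtain ⟨g', h1', h2'⟩ := pair0_normal v' w' hv' hw' hd'
  have e1 : (g'⁻¹ * g) • (v + w) = v' + w' := by rw [mul_smul, h1, ← h1', inv_smul_smul]
  have e2 : (g'⁻¹ * g) • (v - w) = v' - w' := by rw [mul_smul, h2, ← h2', inv_smul_smul]
  rw [smul_add] at e1
  rw [smul_sub] at e2
  refine ⟨g'⁻¹ * g, two_smul_inj ?_, two_smul_inj ?_⟩
  · calc _ = ((g'⁻¹ * g) • v + (g'⁻¹ * g) • w) + ((g'⁻¹ * g) • v - (g'⁻¹ * g) • w) := by abel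
      _ = _ := by rw [e1, e2]; abel
  · calc _ = ((g'⁻¹ * g) • v + (g'⁻¹ * g) • w) - ((g'⁻¹ * g) • v - (g'⁻¹ * g) • w) := by abel
      _ = _ := by rw [e1, e2]; abel

/-- the vector with `-3` at `p` and `1` elsewhere -/
def oddL (p : GolayPt) : leechLattice := ⟨oddVec p, oddVec_mem p⟩

theorem pm_of_odd {g : Co0} (hg : g ∈ Nm) (h : ∀ p, g • oddL p = oddL p ∨ g • oddL p = -oddL p) :
    g = 1 ∨ g = negCo := by
  obtain ⟨σ, c, hc, rfl⟩ := exists_mono hg
  have h1 : σ = 1 := by
    apply Subtype.ext; apply Equiv.ext; intro p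
    show (σ : Equiv.Perm GolayPt) p = p
    by_contra hne
    rcases h p with e | e <;>
    · have := congrFun (congrArg Subtype.val e) ((σ : Equiv.Perm GolayPt) p)
      rw [mono_apply] at this
      simp only [oddL, Equiv.symm_apply_apply, oddVec, if_true, hne, if_false, AddSubgroup.coe_neg,
        Pi.neg_apply] at this
      split_ifs at this <;> norm_num at this
  subst h1
  rcases h none with e | e
  · refine Or.inl (co0_ext fun v => Subtype.ext (funext fun i => ?_))
    have := congrFun (congrArg Subtype.val e) i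
    rw [mono_apply] at this ⊢
    have h2 : ((1 : M24) : Equiv.Perm GolayPt).symm i = i := rfl
    have h3 := Int.odd_iff.1 (oddVec_odd none i)
    simp only [h2, oddL, one_smul] at this ⊢
    split_ifs at this ⊢
    · omega
    · rfl
  · refine Or.inr (co0_ext fun v => Subtype.ext (funext fun i => ?_))
    have := congrFun (congrArg Subtype.val e) i
    rw [mono_apply] at this ⊢
    have h2 : ((1 : M24) : Equiv.Perm GolayPt).symm i = i := rfl
    have h3 := Int.odd_iff.1 (oddVec_odd none i)
    simp only [h2, oddL, negCo_smul, AddSubgroup.coe_neg, Pi.neg_apply] at this ⊢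
    split_ifs at this ⊢
    · rfl
    · omega

theorem pm_of_cong {g : Co0} (h : ∀ v, Cong (g • v) v) : g = 1 ∨ g = negCo := by
  refine pm_of_odd (h _) fun p => ?_
  have n1 : sqNorm (oddL p : V) = 32 := oddVec_norm p
  rcases (h (oddL p)).short (by rw [norm_smul, n1]; norm_num) (by rw [n1]; norm_num) with e | e | e
  · exact Or.inl e
  · exact Or.inr e
  · rw [n1] at e; norm_num at e

/-- the code of a monomial element -/
noncomputable def monoC (s m : ℕ) : ℕ :=
  packC (nat_lit 148) (fun i => Golay.force (get (nat_lit 5) s (Nat.sub (nat_lit 23) i)) fun t =>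
    Nat.sub (Nat.add Z8 (Nat.shiftLeft (nat_lit 8) (Nat.mul (nat_lit 5) t)))
      (Nat.shiftLeft (Nat.mul (nat_lit 16) (get (nat_lit 1) m t)) (Nat.mul (nat_lit 5) t))) (nat_lit 24)

theorem enc_neg_e8 (j : GolayPt) :
    enc ((-e8 j : leechLattice) : V) + 16 * 2 ^ (5 * gE.enc j) = Z8 + 8 * 2 ^ (5 * gE.enc j) := by
  have h1 : Bd ((-e8 j : leechLattice) : V) :=
    bd_of_norm (by rw [AddSubgroup.coe_neg, sqNorm_neg, e8_norm]; norm_num)
  have h2 : (Z8 : ℤ) = 8 * O5 := by decide +kernel
  have := enc_cast h1
  have h3 : EE ((-e8 j : leechLattice) : V) = -8 * 2 ^ (5 * gE.enc j) := by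
    unfold EE
    rw [Finset.sum_eq_single j] <;> simp +contextual [e8_apply]
  generalize enc ((-e8 j : leechLattice) : V) = t at this ⊢
  zify
  rw [this, h3, h2]; ring

theorem gc_mono (σ : M24) (c : Finset GolayPt) (hc : Cw c) :
    gc (mono σ c hc) = monoC (pc σ) (mk c) := by
  unfold monoC gc
  rw [packC_eq]
  apply pack_congr
  intro i hi
  have h1 : get 5 (pc σ) (23 - i) = gE.enc ((σ : Equiv.Perm GolayPt) (gE.dec (23 - i))) := by
    rw [← Golay.get_pc, gE.enc_dec _ (by omega)]
  simp only [Golay.force_eq, Nat.sub_eq, Nat.add_eq, Nat.mul_eq, Nat.shiftLeft_eq', Nat.shiftLeft_eq]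
  rw [mono_e8]
  show _ = Z8 + 8 * 2 ^ (5 * get 5 (pc σ) (23 - i)) -
    16 * get 1 (mk c) (get 5 (pc σ) (23 - i)) * 2 ^ (5 * get 5 (pc σ) (23 - i))
  rw [h1]
  split_ifs with h
  · rw [(Golay.mem_iff_mk _ _).1 h, ← enc_neg_e8]; omega
  · rw [(Golay.not_mem_iff_mk _ _).1 h, enc_e8]; omega

/-- the code of negation -/
def gneg : ℕ := 0x42108421084210842108421084210000000004210842108421084210842108420080000000421084210842108421084210840108000000042108421084210842108421080210800000004210842108421084210842100421080000000421084210842108421084200842108000000042108421084210842108401084210800000004210842108421084210802108421080000000421084210842108421004210842108000000042108421084210842008421084210800000004210842108421084010842108421080000000421084210842108021084210842108000000042108421084210042108421084210800000004210842108420084210842108421080000000421084210840108421084210842108000000042108421080210842108421084210800000004210842100421084210842108421080000000421084200842108421084210842108000000042108401084210842108421084210800000004210802108421084210842108421080000000421004210842108421084210842108000000042008421084210842108421084210800000004010842108421084210842108421080000000021084210842108421084210842108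

theorem gc_negCo : gc negCo = gneg := by
  have h1 : pc ((1 : M24) : Equiv.Perm GolayPt) = Golay.one := Golay.pc_one
  rw [negCo, signCo, gc_mono, h1, Golay.mk_univ]
  decide +kernel

theorem norm_decL (n : ℕ) (h : errL n = 0) (a : ℕ) (e : nm n = 524288 + a) :
    sqNorm (decL n h : V) = a := by
  have := nm_eq (errL_lt h)
  rw [e] at this
  show sqNorm (dec n) = a
  push_cast at this
  linarith

end Cfsg.Agent.Leech
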