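import Cfsg.Agent.Leech.Cert
import Cfsg.Agent.Leech.Simple

/-! Upper bounds for orders of subgroups of `Co0` by passes over all the minimal vectors. -/

set_option autoImplicit false

namespace Cfsg.Agent.Leech
open Cfsg MulAction Finset
open Cfsg.Agent.Golay (mapL sumL force force_eq sumBig sumBig_eq add_eq_zero_iff' xor_eq_zero')

/-- a sum over the minimal vectors -/
noncomputable def passS (f : ℕ → ℕ) : ℕ := ∑ k ∈ range 196560, f (tM k)

theorem passS_four {f : ℕ → ℕ} {R1 R2 R3 R4 : ℕ} (h1 : sumBig (fun k => force (tM k) f) 49140 = R1)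
    (h2 : sumBig (fun k => force (tM (Nat.add 49140 k)) f) 49140 = R2)
    (h3 : sumBig (fun k => force (tM (Nat.add 98280 k)) f) 49140 = R3)
    (h4 : sumBig (fun k => force (tM (Nat.add 147420 k)) f) 49140 = R4) :
    passS f = R1 + R2 + R3 + R4 := by
  have h := sumBig_four (fun k => force (tM k) f) 49140
  rw [h1, h2, h3, h4, sumBig_eq] at h
  rw [← h]
  simp only [passS, force_eq]

theorem allZ_le (f : ℕ → ℕ) (l : List ℕ) (k : ℕ) : allZ f l k ≤ k := by
  induction l with
  | nil => exact le_rfl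
  | cons x l ih =>
    have : allZ f (x :: l) k = Nat.rec (motive := fun _ => ℕ) (allZ f l k) (fun _ _ => nat_lit 0) (f x) :=
      rfl
    rw [this]
    cases f x with
    | zero => exact ih
    | succ t => exact Nat.zero_le _

theorem cand_le (Xs B : List ℕ) (y n : ℕ) : cand Xs B y n ≤ 1 :=
  (allZ_le _ _ _).trans (allZ_le _ _ _)

/-- several tests in one number -/
noncomputable def packF (T : List (ℕ → ℕ)) (n : ℕ) : ℕ :=
  List.rec (motive := fun _ => ℕ) (nat_lit 0)
    (fun t _ ih => Nat.add (t n) (Nat.shiftLeft ih (nat_lit 20))) T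

theorem passS_cons {t : ℕ → ℕ} (ht : ∀ n, t n ≤ 1) {T : List (ℕ → ℕ)} {m R : ℕ} (hm : m < 2 ^ 20)
    (h : passS (packF (t :: T)) = m + R * 2 ^ 20) : passS t = m ∧ passS (packF T) = R := by
  have e : ∀ n, packF (t :: T) n = t n + packF T n * 2 ^ 20 := fun n => by
    show Nat.add (t n) (Nat.shiftLeft (packF T n) (nat_lit 20)) = _
    rw [Nat.add_eq, Nat.shiftLeft_eq', Nat.shiftLeft_eq]
  have h1 : passS t ≤ 196560 := by
    unfold passS
    exact (sum_le_card_nsmul _ _ 1 fun k _ => ht _).trans (by simp)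
  have h2 : passS (packF (t :: T)) = passS t + passS (packF T) * 2 ^ 20 := by
    unfold passS
    simp only [e]
    rw [sum_add_distrib, sum_mul]
  omega

theorem orbit_le_pass {K : Subgroup Co0} {xs B : List ℕ} (hx : Comm K xs) (hB : Fixes K B)
    {y : leechLattice} (hy : sqNorm (y : V) = 32) :
    (orbit K y).ncard ≤ passS (cand (mapL prep xs) B (cd y)) := by
  refine (orbit_le_cand hx hB (hy.le.trans (by norm_num)) (L := (List.range 196560).map tM)
    fun g _ => ?_).trans (le_of_eq ?_)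
  · obtain ⟨k, hk, e⟩ := enum_L2.mem (g • y) ((norm_smul g y).trans hy)
    exact List.mem_map.2 ⟨k, List.mem_range.2 hk, e.symm⟩
  · rw [Golay.sumL_eq, List.map_map, passS]
    generalize 196560 = N
    induction N with
    | zero => rfl
    | succ N ih => rw [List.range_succ, List.map_append, List.sum_append, ih, sum_range_succ]; simp

theorem exists_min {n : ℕ} (h : Nat.add (errL n) (Nat.xor (nm2 n) (nat_lit 524320)) = 0) :
    ∃ y : leechLattice, sqNorm (y : V) = 32 ∧ cd y = n := by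
  rw [add_eq_zero_iff', nm2_eq] at h
  exact ⟨decL _ h.1, norm_decL _ _ 32 (xor_eq_zero' h.2), enc_decL _ _⟩

theorem card_le_step {K : Subgroup Co0} {xs Xs B B' : List ℕ} (hx : Comm K xs) (hB : Fixes K B) {Y : ℕ}
    (hY : Nat.add (errL Y) (Nat.xor (nm2 Y) (nat_lit 524320)) = 0) (hX : mapL prep xs = Xs)
    (hB' : consMap (fun X => vact X Y) Xs (Y :: B) = B') {m r : ℕ} (h1 : passS (cand Xs B Y) = m)
    (h2 : ∀ K' ≤ K, Comm K' xs → Fixes K' B' → Nat.card K' ≤ r) : Nat.card K ≤ m * r := by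
  obtain ⟨y, hy, rfl⟩ := exists_min hY
  subst hX hB'
  rw [Golay.card_eq_orbit_mul K y]
  refine Nat.mul_le_mul (h1 ▸ orbit_le_pass hx hB hy) (h2 _ inf_le_left (fun c hc => ?_)
    (hB.step hx (hy.le.trans (by norm_num))))
  obtain ⟨x, e1, e2⟩ := hx c hc
  exact ⟨x, e1, fun g hg => e2 g hg.1⟩

theorem card_le_span {K : Subgroup Co0} {B : List ℕ} (hB : Fixes K B) {W : List (List ℤ)} {d : ℕ}
    (h : spanErr W d B = 0) : Nat.card K ≤ 1 := by
  rw [eq_bot_of_spanErr hB h, Subgroup.card_bot]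

/-- overgroups of the stabiliser of a minimal vector -/
theorem eq_top_of_moves {F : Subgroup Co0} (h1 : stabilizer Co0 vv ≤ F) (h0 : negCo ∈ F)
    (h : ∀ c : ℤ, c = 16 ∨ c = 8 ∨ c = 0 → ∃ g ∈ F, dotInt (vv : V) ((g • vv : leechLattice) : V) = c) :
    F = ⊤ := by
  have key : ∀ y : leechLattice, sqNorm (y : V) = 32 → dotInt (vv : V) (y : V) = 16 ∨
      dotInt (vv : V) (y : V) = 8 ∨ dotInt (vv : V) (y : V) = 0 → ∃ g ∈ F, g • vv = y := by
    intro y hy hc
    obtain ⟨g, hg, e⟩ := h _ hc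
    obtain ⟨k, hk, e'⟩ := trans_dot (c := dotInt (vv : V) (y : V)) (by omega) norm_vv
      (w := g • vv) ⟨(norm_smul g vv).trans norm_vv, e⟩ y ⟨hy, rfl⟩
    exact ⟨k * g, F.mul_mem (h1 hk) hg, by rw [mul_smul, e']⟩
  have key2 : ∀ y : leechLattice, sqNorm (y : V) = 32 → ∃ g ∈ F, g • vv = y := by
    intro y hy
    rcases dot_min norm_vv hy with e | e | e
    · exact ⟨1, F.one_mem, by rw [e, one_smul]⟩
    · exact ⟨negCo, h0, by rw [e, negCo_smul]⟩
    by_cases hc : 0 ≤ dotInt (vv : V) (y : V)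
    · exact key y hy (by omega)
    · obtain ⟨g, hg, e'⟩ := key (-y) (by rw [AddSubgroup.coe_neg, sqNorm_neg, hy])
        (by rw [AddSubgroup.coe_neg, dot_neg_right]; omega)
      exact ⟨negCo * g, F.mul_mem h0 hg, by rw [mul_smul, e', negCo_smul, neg_neg]⟩
  rw [eq_top_iff]
  intro g _
  obtain ⟨k, hk, e⟩ := key2 (g • vv) ((norm_smul g vv).trans norm_vv)
  have : k⁻¹ * g ∈ F := h1 (by rw [mem_stabilizer_iff, mul_smul, ← e, inv_smul_smul])
  simpa using F.mul_mem hk this

end Cfsg.Agent.Leech
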