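import Cfsg.Agent.Leech.Kit
import Cfsg.Agent.Perm.Multi
import Cfsg.Agent.S0366

/-! `Co0` is transitive on the vectors of norm 32, 48 and 64. -/

set_option autoImplicit false

namespace Cfsg.Agent.Leech
open Cfsg Finset
open Cfsg.Agent.Golay (gE get)

/-- two vectors in one orbit -/
def Eqv (v w : leechLattice) : Prop := ∃ g : Co0, g • v = w

theorem Eqv.refl (v : leechLattice) : Eqv v v := ⟨1, one_smul _ _⟩
theorem Eqv.symm {v w : leechLattice} (h : Eqv v w) : Eqv w v := by
  obtain ⟨g, rfl⟩ := h; exact ⟨g⁻¹, inv_smul_smul _ _⟩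
theorem Eqv.trans {u v w : leechLattice} (h : Eqv u v) (h' : Eqv v w) : Eqv u w := by
  obtain ⟨g, rfl⟩ := h; obtain ⟨g', rfl⟩ := h'; exact ⟨g' * g, mul_smul _ _ _⟩
theorem Eqv.smul (g : Co0) (v : leechLattice) : Eqv v (g • v) := ⟨g, rfl⟩

theorem natCard_pt : Nat.card GolayPt = 24 := by rw [Nat.card_eq_fintype_card, card_pt]

theorem m24_trans {k : ℕ} (hk : k ≤ 5) : MulAction.IsMultiplyPretransitive M24 GolayPt k :=
  haveI := S0366.result
  MulAction.isMultiplyPretransitive_of_le hk (by rw [natCard_pt]; norm_num)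

theorem exists_m24 {k : ℕ} (hk : k ≤ 5) (x y : Fin k → GolayPt) (hx : Function.Injective x)
    (hy : Function.Injective y) : ∃ σ : M24, ∀ i, (σ : Equiv.Perm GolayPt) (x i) = y i :=
  (Perm.multi_iff k).1 (m24_trans hk) x y hx hy

theorem exists_m24_1 (a a' : GolayPt) : ∃ σ : M24, (σ : Equiv.Perm GolayPt) a = a' := by
  obtain ⟨σ, h⟩ := exists_m24 (k := 1) (by norm_num) ![a] ![a'] (Function.injective_of_subsingleton _)
    (Function.injective_of_subsingleton _)
  exact ⟨σ, h 0⟩

theorem exists_m24_2 {a b a' b' : GolayPt} (h : a ≠ b) (h' : a' ≠ b') :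
    ∃ σ : M24, (σ : Equiv.Perm GolayPt) a = a' ∧ (σ : Equiv.Perm GolayPt) b = b' :=
  Perm.two_trans (m24_trans (by norm_num)) h h'

theorem exists_m24_3 {a b c a' b' c' : GolayPt} (hab : a ≠ b) (hac : a ≠ c) (hbc : b ≠ c)
    (hab' : a' ≠ b') (hac' : a' ≠ c') (hbc' : b' ≠ c') :
    ∃ σ : M24, (σ : Equiv.Perm GolayPt) a = a' ∧ (σ : Equiv.Perm GolayPt) b = b' ∧
      (σ : Equiv.Perm GolayPt) c = c' :=
  Perm.three_trans (m24_trans (by norm_num)) hab hac hbc hab' hac' hbc'

theorem exists_m24_4 {a b c d a' b' c' d' : GolayPt} (hab : a ≠ b) (hac : a ≠ c) (had : a ≠ d)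
    (hbc : b ≠ c) (hbd : b ≠ d) (hcd : c ≠ d)
    (hab' : a' ≠ b') (hac' : a' ≠ c') (had' : a' ≠ d') (hbc' : b' ≠ c') (hbd' : b' ≠ d')
    (hcd' : c' ≠ d') :
    ∃ σ : M24, (σ : Equiv.Perm GolayPt) a = a' ∧ (σ : Equiv.Perm GolayPt) b = b' ∧
      (σ : Equiv.Perm GolayPt) c = c' ∧ (σ : Equiv.Perm GolayPt) d = d' :=
  Perm.four_trans (m24_trans (by norm_num)) hab hac had hbc hbd hcd hab' hac' had' hbc' hbd' hcd'

/-- the code of the extra generator -/
def xiC : ℕ := 0x621084210842108421084210843184000000062108421084210842108421084308c000000062108421084210842108421084118c00000004210842088411084210842088621080000000411084210442088421084210c4210800000004210842088411084210842188221080000000420882210842108421082310842108000000042088221084210842108611084210800000004210841108421042210c4210842108000000042104421082210841188421084210800000004210442108221084308842108421080000000421084110842104621044210842108000000042108411084210c2210442108421080000000411084210442188421084210442108000000042108420884310842108420882210800000004210442108621084108842108421080000000411084210c4208842108421044210800000004210842188411084210842088221080000000421084310842104221044210842108000000042088621084210842108211084210800000004210c421082210841088421084210800000004218822108421084210821108421080000000431084210442088421084210442108000000022108421084210842108421084318c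

theorem xiC_ok : errM xiC = 0 := by decide +kernel

/-- the extra generator of `Co0` -/
noncomputable def xi : Co0 := tg xiC

theorem gc_xi : gc xi = xiC := gc_tg xiC_ok

theorem sum_pt (f : GolayPt → ℤ) : ∑ p, f p = ∑ k ∈ range 24, f (gE.dec k) := by
  rw [gE.sum_range]; simp only [gE.dec_enc]

theorem xi_none (v : leechLattice) : 2 * ((xi • v : leechLattice) : V) none =
    (v : V) (some 0) + (v : V) (some 1) + (v : V) (some 2) - (v : V) none := by
  have h1 := mat_mulVec xi v none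
  have h2 : ∀ j, mat xi none j =
      (if j = some 0 then 4 else 0) + (if j = some 1 then 4 else 0) + (if j = some 2 then 4 else 0) +
        (if j = none then -4 else 0) := by
    intro j
    rw [mat_eq_dec, gc_xi]
    revert j
    decide +kernel
  simp only [h2, add_mul, ite_mul, zero_mul, Finset.sum_add_distrib, Finset.sum_ite_eq',
    Finset.mem_univ, if_true] at h1
  omega

theorem exists_three_notin (c : Finset GolayPt) (hc : c.card ≤ 21) :
    ∃ q r s, q ∉ c ∧ r ∉ c ∧ s ∉ c ∧ q ≠ r ∧ q ≠ s ∧ r ≠ s := by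
  have : 2 < cᶜ.card := by rw [Finset.card_compl, card_pt]; omega
  obtain ⟨q, r, s, h1, h2, h3, h4, h5, h6⟩ := Finset.two_lt_card_iff.1 this
  exact ⟨q, r, s, Finset.mem_compl.1 h1, Finset.mem_compl.1 h2, Finset.mem_compl.1 h3, h4, h5, h6⟩

/-- move one point of `c` and three points outside `c` to the special tetrad, and apply `xi` -/
theorem xi_step (v : leechLattice) (c : Finset GolayPt) (hc : c.card ≤ 21) {p : GolayPt} (hp : p ∈ c) :
    ∃ g : Co0, ∃ q r s, q ∉ c ∧ r ∉ c ∧ s ∉ c ∧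
      2 * ((g • v : leechLattice) : V) none = (v : V) q + (v : V) r + (v : V) s - (v : V) p := by
  obtain ⟨q, r, s, h1, h2, h3, h4, h5, h6⟩ := exists_three_notin c hc
  obtain ⟨σ, e1, e2, e3, e4⟩ := exists_m24_4 (a := p) (b := q) (c := r) (d := s) (a' := none)
    (b' := some 0) (c' := some 1) (d' := some 2) (fun e => h1 (e ▸ hp)) (fun e => h2 (e ▸ hp))
    (fun e => h3 (e ▸ hp)) h4 h5 h6 (by decide) (by decide) (by decide) (by decide) (by decide)
    (by decide)
  refine ⟨xi * permCo σ, q, r, s, h1, h2, h3, ?_⟩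
  rw [mul_smul, xi_none, ← e1, ← e2, ← e3, ← e4, permCo_apply', permCo_apply', permCo_apply',
    permCo_apply']

theorem card_filter_mul_le (x : V) (P : GolayPt → Prop) [DecidablePred P] (a : ℤ)
    (h : ∀ i, P i → a ≤ x i ^ 2) : ((univ.filter P).card : ℤ) * a ≤ sqNorm x := by
  have h1 := Finset.card_nsmul_le_sum (univ.filter P) (fun i => x i ^ 2) a
    fun i hi => h i (Finset.mem_filter.1 hi).2
  rw [nsmul_eq_mul] at h1
  exact h1.trans (Finset.sum_le_sum_of_subset_of_nonneg (Finset.filter_subset _ _)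
    fun _ _ _ => sq_nonneg _)

theorem odd_of_two (v : leechLattice) (hn : sqNorm (v : V) ≤ 64) {p : GolayPt} (hp : (v : V) p % 4 = 2) :
    ∃ g : Co0, Odd (((g • v : leechLattice) : V) none) := by
  have h1 := card_filter_mul_le v (fun i => (v : V) i % 4 = 2) 4 fun i hi => by
    have : (v : V) i ≤ -2 ∨ 2 ≤ (v : V) i := by omega
    rcases this with h | h <;> nlinarith
  obtain ⟨g, q, r, s, h2, h3, h4, e⟩ := xi_step v (univ.filter fun i => (v : V) i % 4 = 2) (by omega)
    (p := p) (by simpa using hp)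
  simp only [Finset.mem_filter, Finset.mem_univ, true_and] at h2 h3 h4
  have := leech_parity v.2 q p
  have := leech_parity v.2 r p
  have := leech_parity v.2 s p
  exact ⟨g, Int.odd_iff.2 (by omega)⟩

theorem odd_of_four (v : leechLattice) (hn : sqNorm (v : V) ≤ 64) {p : GolayPt} (hp : (v : V) p % 8 = 4) :
    ∃ g : Co0, Odd (((g • v : leechLattice) : V) none) := by
  by_cases h0 : ∃ q, (v : V) q % 4 = 2
  · obtain ⟨q, hq⟩ := h0; exact odd_of_two v hn hq
  push Not at h0
  have h1 := card_filter_mul_le v (fun i => (v : V) i % 8 = 4) 16 fun i hi => by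
    have : (v : V) i ≤ -4 ∨ 4 ≤ (v : V) i := by omega
    rcases this with h | h <;> nlinarith
  obtain ⟨g, q, r, s, h2, h3, h4, e⟩ := xi_step v (univ.filter fun i => (v : V) i % 8 = 4) (by omega)
    (p := p) (by simpa using hp)
  simp only [Finset.mem_filter, Finset.mem_univ, true_and] at h2 h3 h4
  have := leech_parity v.2 q p
  have := leech_parity v.2 r p
  have := leech_parity v.2 s p
  have := h0 q
  have := h0 r
  have := h0 s
  obtain ⟨g', hg'⟩ := odd_of_two (g • v) (by rwa [norm_smul]) (p := none) (by omega)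
  exact ⟨g' * g, by rwa [mul_smul]⟩

theorem exists_odd (v : leechLattice) (hn : sqNorm (v : V) ≤ 64) (h0 : v ≠ 0) :
    ∃ g : Co0, Odd (((g • v : leechLattice) : V) none) := by
  by_cases h1 : Odd ((v : V) none)
  · exact ⟨1, by rwa [one_smul]⟩
  rw [Int.not_odd_iff_even] at h1
  by_cases h2 : ∃ q, (v : V) q % 4 = 2
  · obtain ⟨q, hq⟩ := h2; exact odd_of_two v hn hq
  by_cases h3 : ∃ q, (v : V) q % 8 = 4
  · obtain ⟨q, hq⟩ := h3; exact odd_of_four v hn hq
  push Not at h2 h3
  have h4 : ∀ q, (v : V) q % 8 = 0 := fun q => by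
    have := Int.even_iff.1 (leech_all_even v.2 h1 q)
    have := h2 q
    have := h3 q
    omega
  obtain ⟨p, hp⟩ : ∃ p, (v : V) p ≠ 0 := by
    by_contra hh
    push Not at hh
    exact h0 (Subtype.ext (funext hh))
  have h5 := card_filter_mul_le v (fun i => (v : V) i ≠ 0) 64 fun i hi => by
    have : (v : V) i ≤ -8 ∨ 8 ≤ (v : V) i := by have := h4 i; omega
    rcases this with h | h <;> nlinarith
  obtain ⟨g, q, r, s, h6, h7, h8, e⟩ := xi_step v (univ.filter fun i => (v : V) i ≠ 0) (by omega)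
    (p := p) (by simpa using hp)
  simp only [Finset.mem_filter, Finset.mem_univ, true_and, not_not] at h6 h7 h8
  have h9 : (v : V) p = 8 ∨ (v : V) p = -8 := by
    have := sq_le_sqNorm v p
    have : -8 ≤ (v : V) p := by nlinarith
    have : (v : V) p ≤ 8 := by nlinarith
    have := h4 p
    omega
  obtain ⟨g', hg'⟩ := odd_of_four (g • v) (by rwa [norm_smul]) (p := none) (by omega)
  exact ⟨g' * g, by rwa [mul_smul]⟩

theorem exists_one_mod (v : leechLattice) (h : Odd ((v : V) none)) :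
    ∃ c, ∃ hc : Cw c, ∀ i, ((signCo c hc • v : leechLattice) : V) i % 4 = 1 := by
  obtain ⟨y, h1, h2, -⟩ := leech_odd v.2 h
  refine ⟨_, h2, fun i => ?_⟩
  rw [signCo_apply, h1 i]
  simp only [mem_oddSet, Int.odd_iff]
  split_ifs <;> omega

/-- five special points -/
def pts5 : Fin 5 → GolayPt := ![some 0, some 1, some 2, some 3, none]

theorem pts5_inj : Function.Injective pts5 := by decide

/-- the vectors that are `1` outside the five special points -/
def std5 (a b c d e : ℤ) : V := fun p =>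
  if p = some 0 then a else if p = some 1 then b else if p = some 2 then c else if p = some 3 then d
    else if p = none then e else 1

theorem norm_std5 (a b c d e : ℤ) :
    sqNorm (std5 a b c d e) = a ^ 2 + b ^ 2 + c ^ 2 + d ^ 2 + e ^ 2 + 19 := by
  have : ∀ p, std5 a b c d e p ^ 2 = (if p = some 0 then a ^ 2 - 1 else 0) +
      (if p = some 1 then b ^ 2 - 1 else 0) + (if p = some 2 then c ^ 2 - 1 else 0) +
      (if p = some 3 then d ^ 2 - 1 else 0) + (if p = none then e ^ 2 - 1 else 0) + 1 := by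
    intro p
    unfold std5
    split_ifs <;> first | ring1 | (subst_vars; contradiction)
  simp only [sqNorm_def, this, Finset.sum_add_distrib, Finset.sum_ite_eq', Finset.mem_univ, if_true,
    Finset.sum_const, Finset.card_univ, card_pt]
  ring

theorem exists_std5 (v : leechLattice) (hn : sqNorm (v : V) ≤ 64) (h : ∀ i, (v : V) i % 4 = 1) :
    ∃ σ : M24, ∃ a b c d e : ℤ, a ≤ b ∧ b ≤ c ∧ c ≤ d ∧ d ≤ e ∧ a % 4 = 1 ∧ b % 4 = 1 ∧ c % 4 = 1 ∧
      d % 4 = 1 ∧ e % 4 = 1 ∧ ((permCo σ • v : leechLattice) : V) = std5 a b c d e := by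
  have h1 : ((univ.filter fun i => (v : V) i ≠ 1).card : ℤ) * 8 ≤ sqNorm (v : V) - 24 := by
    have h1 := Finset.card_nsmul_le_sum (univ.filter fun i => (v : V) i ≠ 1)
      (fun i => (v : V) i ^ 2 - 1) 8 fun i hi => by
        have h2 := (Finset.mem_filter.1 hi).2
        have : (v : V) i ≤ -3 ∨ 3 ≤ (v : V) i := by have := h i; omega
        rcases this with h | h <;> nlinarith
    rw [nsmul_eq_mul] at h1
    refine h1.trans ((Finset.sum_le_sum_of_subset_of_nonneg (Finset.filter_subset _ _)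
      fun i _ _ => ?_).trans ?_)
    · have : (v : V) i ≤ -1 ∨ 1 ≤ (v : V) i := by have := h i; omega
      rcases this with h | h <;> nlinarith
    · rw [Finset.sum_sub_distrib, sqNorm_def]; simp
  obtain ⟨B, hB, hB5⟩ := Finset.exists_superset_card_eq (s := univ.filter fun i => (v : V) i ≠ 1)
    (n := 5) (by omega) (by rw [card_pt]; norm_num)
  let e : Fin 5 → GolayPt := fun k => (B.equivFinOfCardEq hB5).symm k
  have he : Function.Injective e :=
    Subtype.val_injective.comp (B.equivFinOfCardEq hB5).symm.injective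
  let f : Fin 5 → GolayPt := e ∘ Tuple.sort ((v : V) ∘ e)
  have hf : Function.Injective f := he.comp (Tuple.sort _).injective
  have hm : Monotone ((v : V) ∘ f) := Tuple.monotone_sort ((v : V) ∘ e)
  obtain ⟨σ, hσ⟩ := exists_m24 (le_refl 5) f pts5 hf pts5_inj
  refine ⟨σ, (v : V) (f 0), (v : V) (f 1), (v : V) (f 2), (v : V) (f 3), (v : V) (f 4),
    hm (by decide : (0 : Fin 5) ≤ 1), hm (by decide : (1 : Fin 5) ≤ 2), hm (by decide : (2 : Fin 5) ≤ 3),
    hm (by decide : (3 : Fin 5) ≤ 4), h _, h _, h _, h _, h _, ?_⟩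
  funext p
  have key : ∀ k, p = pts5 k → ((permCo σ • v : leechLattice) : V) p = (v : V) (f k) := by
    rintro k rfl; rw [← hσ, permCo_apply']
  unfold std5
  split_ifs with h0 h1 h2 h3 h4
  · exact key 0 h0
  · exact key 1 h1
  · exact key 2 h2
  · exact key 3 h3
  · exact key 4 h4
  · rw [permCo_apply]
    by_contra hne
    have h5 : (σ : Equiv.Perm GolayPt).symm p ∈ B := hB (by simpa using hne)
    obtain ⟨k, hk⟩ : ∃ k, f k = (σ : Equiv.Perm GolayPt).symm p :=
      ⟨(Tuple.sort ((v : V) ∘ e)).symm (B.equivFinOfCardEq hB5 ⟨_, h5⟩), by simp [f, e]⟩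
    have h6 : p = pts5 k := by rw [← hσ, hk]; simp
    fin_cases k
    exacts [h0 h6, h1 h6, h2 h6, h3 h6, h4 h6]

set_option synthInstance.maxSize 2000 in
set_option synthInstance.maxHeartbeats 200000 in
theorem exists_rep (v : leechLattice) (hn : sqNorm (v : V) ≤ 64) (h0 : v ≠ 0) :
    ∃ w : leechLattice, Eqv v w ∧ ((w : V) = std5 (-3) 1 1 1 1 ∨ (w : V) = std5 (-3) (-3) (-3) 1 1 ∨
      (w : V) = std5 1 1 1 1 5 ∨ (w : V) = std5 (-3) (-3) (-3) (-3) (-3) ∨
      (w : V) = std5 (-3) (-3) 1 1 5) := by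
  obtain ⟨g, hg⟩ := exists_odd v hn h0
  obtain ⟨c, hc, h1⟩ := exists_one_mod _ hg
  obtain ⟨σ, a, b, c', d, e, l1, l2, l3, l4, m1, m2, m3, m4, m5, h2⟩ :=
    exists_std5 _ (by rwa [norm_smul, norm_smul]) h1
  refine ⟨_, ((Eqv.smul g v).trans (Eqv.smul (signCo c hc) _)).trans (Eqv.smul (permCo σ) _), ?_⟩
  have h3 := congrArg sqNorm h2
  rw [norm_smul, norm_smul, norm_smul, norm_std5] at h3
  rw [h2]
  have b1 : -7 < a := by nlinarith [sq_nonneg b, sq_nonneg c', sq_nonneg d, sq_nonneg e]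
  have b2 : e < 7 := by nlinarith [sq_nonneg b, sq_nonneg c', sq_nonneg d, sq_nonneg a]
  have key : ∀ a ∈ [(-3 : ℤ), 1, 5], ∀ b ∈ [(-3 : ℤ), 1, 5], ∀ c ∈ [(-3 : ℤ), 1, 5],
      ∀ d ∈ [(-3 : ℤ), 1, 5], ∀ e ∈ [(-3 : ℤ), 1, 5], a ≤ b → b ≤ c → c ≤ d → d ≤ e →
      (a ^ 2 + b ^ 2 + c ^ 2 + d ^ 2 + e ^ 2 + 19) % 16 = 0 →
      a ^ 2 + b ^ 2 + c ^ 2 + d ^ 2 + e ^ 2 + 19 ≤ 64 →
      (a = -3 ∧ b = 1 ∧ c = 1 ∧ d = 1 ∧ e = 1) ∨ (a = -3 ∧ b = -3 ∧ c = -3 ∧ d = 1 ∧ e = 1) ∨
      (a = 1 ∧ b = 1 ∧ c = 1 ∧ d = 1 ∧ e = 5) ∨ (a = -3 ∧ b = -3 ∧ c = -3 ∧ d = -3 ∧ e = -3) ∨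
      (a = -3 ∧ b = -3 ∧ c = 1 ∧ d = 1 ∧ e = 5) := by decide +kernel
  have h6 := sixteen_dvd v.2
  have mem : ∀ t : ℤ, -7 < t → t < 7 → t % 4 = 1 → t ∈ [(-3 : ℤ), 1, 5] := by
    intro t _ _ _
    simp only [List.mem_cons, List.not_mem_nil, or_false]
    omega
  rcases key a (mem a b1 (by omega) m1) b (mem b (by omega) (by omega) m2)
    c' (mem c' (by omega) (by omega) m3) d (mem d (by omega) (by omega) m4)
    e (mem e (by omega) b2 m5) l1 l2 l3 l4 (by rw [← h3]; omega) (by rw [← h3]; exact hn) with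
    ⟨rfl, rfl, rfl, rfl, rfl⟩ | ⟨rfl, rfl, rfl, rfl, rfl⟩ | ⟨rfl, rfl, rfl, rfl, rfl⟩ |
    ⟨rfl, rfl, rfl, rfl, rfl⟩ | ⟨rfl, rfl, rfl, rfl, rfl⟩ <;> simp only [true_or, or_true]

/-- an element joining the two types of odd vectors of norm 64 -/
def j64C : ℕ := 0x49d292a52929ca73a4a94a4e74a567000000049d254a52529d273a529494e74a4eb00000003956739ce73a4e949ce739d293aca5000000029ca94a52549ca73a5294a4eb4a4e700000003a5673ace7594e949ce759d2939d29000000049ca94a52949d275a4a9494e72a4e700000003a4e739ce73a4e94aceb39da939d2900000003a4e739ce73a56529ce759d2939d25000000029d254a5294ad275a5294a4e74a567000000049d294a52949d273952d4a5674a4e700000003a4e739d6b3a4e949ce759d2959ca9000000049d254a52949d273a4a92a4eb494e7000000049d294a52949d273b5254a5674a4e700000004ad254952949ca73a5294a4e72a4e700000003a56b59d673a4e549ce739d2939d29000000049d292952549d275a5294a4e7494e700000004ad294a5254ad2b3a4a94a4e74a4e700000004ad294a4a929d275a5294a4eb4a4e700000005a4e73ad673a4e949d6739d2939d2500000003a4e73ace73a4e549ce73ad2539ca9000000049d292a5294ad273a5294a4eb2a4eb000000049d294a4a94aca73a529494e7494e700000002ad292a52949d273a529294e74a4e7000000029d294a52929d2b3a5294a4e7294e7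

theorem j64C_ok : errM j64C = 0 := by decide +kernel

theorem trans_norm (v w : leechLattice) (hn : sqNorm (v : V) ≤ 64)
    (e : sqNorm (v : V) = sqNorm (w : V)) : Eqv v w := by
  by_cases h0 : v = 0
  · have : w = 0 := Subtype.ext (sqNorm_eq_zero (by rw [← e, h0]; exact sqNorm_zero))
    rw [h0, this]; exact Eqv.refl _
  have h0' : w ≠ 0 := by
    rintro rfl
    exact h0 (Subtype.ext (sqNorm_eq_zero (by rw [e]; exact sqNorm_zero)))
  obtain ⟨v', ⟨g, rfl⟩, hv⟩ := exists_rep v hn h0
  obtain ⟨w', ⟨g', rfl⟩, hw⟩ := exists_rep w (e ▸ hn) h0'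
  refine (Eqv.smul g v).trans (Eqv.trans ?_ (Eqv.smul g' w).symm)
  have e' : sqNorm ((g • v : leechLattice) : V) = sqNorm ((g' • w : leechLattice) : V) := by
    rw [norm_smul, norm_smul, e]
  generalize g • v = x at *
  generalize g' • w = y at *
  have j48 : ∀ x y : leechLattice, (x : V) = std5 1 1 1 1 5 → (y : V) = std5 (-3) (-3) (-3) 1 1 →
      Eqv x y := by
    intro x y hx hy
    refine Eqv.trans ⟨xi, smul_eq_of_ap1 gc_xi (y := -y) (by rw [hx, norm_std5]; norm_num)
      (bd_of_norm (by rw [AddSubgroup.coe_neg, sqNorm_neg, hy, norm_std5]; norm_num)) ?_⟩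
      ⟨negCo, by rw [negCo_smul, neg_neg]⟩
    rw [AddSubgroup.coe_neg, hx, hy]
    unfold enc
    simp only [← Golay.packC_eq]
    decide +kernel
  have j64 : ∀ x y : leechLattice, (x : V) = std5 (-3) (-3) 1 1 5 →
      (y : V) = std5 (-3) (-3) (-3) (-3) (-3) → Eqv x y := by
    intro x y hx hy
    refine ⟨tg j64C, smul_eq_of_ap1 (gc_tg j64C_ok) (by rw [hx, norm_std5]; norm_num)
      (bd_of_norm (by rw [hy, norm_std5]; norm_num)) ?_⟩
    rw [hx, hy]
    unfold enc
    simp only [← Golay.packC_eq]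
    decide +kernel
  rcases hv with hv | hv | hv | hv | hv <;> rcases hw with hw | hw | hw | hw | hw <;>
    first
    | exact (Subtype.ext (hv.trans hw.symm) : x = y) ▸ Eqv.refl _
    | exact j48 _ _ hv hw
    | exact (j48 _ _ hw hv).symm
    | exact j64 _ _ hv hw
    | exact (j64 _ _ hw hv).symm
    | (rw [hv, hw, norm_std5, norm_std5] at e'; norm_num at e')

end Cfsg.Agent.Leech
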